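import Mathlib

/-!
# Where finitely many elements of a flat module vanish
-/

set_option autoImplicit false
set_option linter.style.haveILetI false
universe u

open scoped TensorProduct
open IsLocalRing

namespace Groth.Agent.VanRep13

variable {A : Type u} [CommRing A] {M : Type u} [AddCommGroup M] [Module A M]

/-- All members of `T` vanish in `C ⊗ M`. -/
def Van (A : Type u) [CommRing A] {M : Type u} [AddCommGroup M] [Module A M] (T : Set M) (C : Type u) [CommRing C] [Algebra A C] : Prop :=
  ∀ t ∈ T, (1 : C) ⊗ₜ[A] t = 0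

/-- `J` is the ideal of the vanishing of `T`. -/
def Rep (T : Set M) (J : Ideal A) : Prop :=
  ∀ (C : Type u) [CommRing C] [Algebra A C], Van A T C ↔ J ≤ RingHom.ker (algebraMap A C)

/-- Vanishing to every order at the closed point of a local algebra is vanishing. -/
def Sep (A : Type u) [CommRing A] {M : Type u} [AddCommGroup M] [Module A M] (T : Set M) : Prop :=
  ∀ (C : Type u) [CommRing C] [Algebra A C] [IsLocalRing C] [IsNoetherianRing C],
    (∀ k : ℕ, ∀ t ∈ T, (1 : C) ⊗ₜ[A] t ∈ (maximalIdeal C ^ k) • (⊤ : Submodule C (C ⊗[A] M))) → Van A T C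

variable {T : Set M}

theorem Van.map {C C' : Type u} [CommRing C] [Algebra A C] [CommRing C'] [Algebra A C'] (f : C →ₐ[A] C')
    (h : Van A T C) : Van A T C' := fun t ht => by
  have := congrArg (f.toLinearMap.rTensor M) (h t ht)
  simpa using this

theorem van_iff_of_injective [Module.Flat A M] {C C' : Type u} [CommRing C] [Algebra A C] [CommRing C'] [Algebra A C']
    (f : C →ₐ[A] C') (hf : Function.Injective f) : Van A T C ↔ Van A T C' := by
  refine ⟨fun h => h.map f, fun h t ht => ?_⟩
  refine Module.Flat.rTensor_preserves_injective_linearMap f.toLinearMap hf ?_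
  rw [map_zero, LinearMap.rTensor_tmul, AlgHom.toLinearMap_apply, map_one]
  exact h t ht

theorem van_quot_iff (J : Ideal A) : Van A T (A ⧸ J) ↔ ∀ t ∈ T, t ∈ J • (⊤ : Submodule A M) := by
  refine forall₂_congr fun t _ => ?_
  rw [← Submodule.Quotient.mk_eq_zero (J • (⊤ : Submodule A M)),
    ← (TensorProduct.quotTensorEquivQuotSMul M J).map_eq_zero_iff]
  have e : (TensorProduct.quotTensorEquivQuotSMul M J) ((1 : A ⧸ J) ⊗ₜ[A] t) = Submodule.Quotient.mk t := by
    have h := TensorProduct.quotTensorEquivQuotSMul_mk_tmul J (1 : A) t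
    rw [one_smul] at h
    exact h
  rw [e]

theorem van_iff_ker [Module.Flat A M] (C : Type u) [CommRing C] [Algebra A C] :
    Van A T C ↔ Van A T (A ⧸ RingHom.ker (algebraMap A C)) :=
  (van_iff_of_injective (Ideal.kerLiftAlg (Algebra.ofId A C)) (Ideal.kerLiftAlg_injective _)).symm

theorem Van.of_le {J J' : Ideal A} (h : J ≤ J') (hv : Van A T (A ⧸ J)) : Van A T (A ⧸ J') :=
  hv.map (Ideal.Quotient.factorₐ A h)

theorem van_inf [Module.Flat A M] {J J' : Ideal A} (h : Van A T (A ⧸ J)) (h' : Van A T (A ⧸ J')) :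
    Van A T (A ⧸ (J ⊓ J')) := by
  have hp : Van A T ((A ⧸ J) × (A ⧸ J')) := fun t ht => by
    refine (TensorProduct.prodLeft A A (A ⧸ J) (A ⧸ J') M).injective ?_
    rw [map_zero, show (1 : (A ⧸ J) × (A ⧸ J')) = ((1 : A ⧸ J), (1 : A ⧸ J')) from rfl,
      TensorProduct.prodLeft_tmul]
    exact Prod.ext (h t ht) (h' t ht)
  have := (van_iff_ker _).1 hp
  refine this.of_le fun a ha => ?_
  rw [RingHom.mem_ker] at ha
  exact ⟨Ideal.Quotient.eq_zero_iff_mem.1 (congrArg Prod.fst ha),
    Ideal.Quotient.eq_zero_iff_mem.1 (congrArg Prod.snd ha)⟩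

theorem rep_of [Module.Flat A M] {J : Ideal A} (h₁ : Van A T (A ⧸ J))
    (h₂ : ∀ J' : Ideal A, Van A T (A ⧸ J') → J ≤ J') : Rep T J := fun C _ _ =>
  ⟨fun h => h₂ _ ((van_iff_ker C).1 h), fun h => (van_iff_ker C).2 (h₁.of_le h)⟩

theorem Rep.van {J : Ideal A} (h : Rep T J) : Van A T (A ⧸ J) :=
  (h (A ⧸ J)).2 (by rw [Ideal.Quotient.algebraMap_eq, Ideal.mk_ker])

theorem Rep.least {J : Ideal A} (h : Rep T J) {J' : Ideal A} (h' : Van A T (A ⧸ J')) : J ≤ J' := by
  simpa [Ideal.Quotient.algebraMap_eq, Ideal.mk_ker] using (h (A ⧸ J')).1 h'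

section Transfer

/-- The image of `T` in the base change. -/
def img (A : Type u) [CommRing A] {M : Type u} [AddCommGroup M] [Module A M] (L : Type u) [CommRing L] [Algebra A L]
    (T : Set M) : Set (L ⊗[A] M) := (fun t => (1 : L) ⊗ₜ[A] t) '' T

variable (L : Type u) [CommRing L] [Algebra A L] (C : Type u) [CommRing C] [Algebra A C] [Algebra L C] [IsScalarTower A L C]

theorem van_img : Van L (img A L T) C ↔ Van A T C := by
  refine ⟨fun h t ht => ?_, fun h => ?_⟩
  · have := congrArg (TensorProduct.AlgebraTensorModule.cancelBaseChange A L C C M) (h _ ⟨t, ht, rfl⟩)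
    simpa using this
  · rintro _ ⟨t, ht, rfl⟩
    refine (TensorProduct.AlgebraTensorModule.cancelBaseChange A L C C M).injective ?_
    simpa using h t ht

end Transfer

theorem Sep.img (h : Sep A T) (L : Type u) [CommRing L] [Algebra A L] : Sep L (img A L T) := by
  intro C _ _ _ _ hk
  letI : Algebra A C := ((algebraMap L C).comp (algebraMap A L)).toAlgebra
  haveI : IsScalarTower A L C := IsScalarTower.of_algebraMap_eq fun _ => rfl
  rw [van_img L C]
  refine h C fun k t ht => ?_
  let e := TensorProduct.AlgebraTensorModule.cancelBaseChange A L C C M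
  have h1 := Submodule.mem_map_of_mem (f := e.toLinearMap) (hk k _ ⟨t, ht, rfl⟩)
  rw [Submodule.map_smul'', Submodule.map_top, LinearEquiv.range] at h1
  simpa [e] using h1

end Groth.Agent.VanRep13
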