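import Groth.Agent.Lib.ModLimH13.Quot
import Groth.Agent.Lib.FibDepth5.Data

/-!
# Vanishing of a pulled back homomorphism on affine charts
-/

set_option autoImplicit false
set_option linter.style.haveILetI false
set_option backward.isDefEq.respectTransparency false
universe u

open CategoryTheory Limits AlgebraicGeometry TopologicalSpace
open scoped TensorProduct

namespace Groth.Agent.VanRep13

open ModLimH13

/-- A homomorphism killed by pulling back to the members of an open cover is zero. -/
theorem hom_eq_zero_of_cover {X : Scheme.{u}} {M N : X.Modules} (ψ : M ⟶ N) {ι : Type*} (U : ι → Scheme.{u})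
    (j : ∀ i, U i ⟶ X) [∀ i, IsOpenImmersion (j i)] (hcov : ∀ x, ∃ i, x ∈ Set.range (j i))
    (h : ∀ i, (Scheme.Modules.pullback (j i)).map ψ = 0) : ψ = 0 := by
  refine hom_ext_affine ψ 0 fun x => ?_
  obtain ⟨i, hi⟩ := hcov x
  refine ⟨(j i).opensRange, hi, fun W hW _ s => ?_⟩
  have h1 : (Scheme.Modules.restrictFunctor (j i)).map ψ = 0 := by
    rw [← NatIso.naturality_2 (Scheme.Modules.restrictFunctorIsoPullback (j i)) ψ, h i, Limits.zero_comp,
      Limits.comp_zero]
  obtain ⟨W', rfl⟩ : ∃ W' : (U i).Opens, (j i) ''ᵁ W' = W :=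
    ⟨(j i) ⁻¹ᵁ W, by rw [Scheme.Hom.image_preimage_eq_opensRange_inf, inf_eq_right.2 hW]⟩
  exact congrArg (fun φ : M.restrict (j i) ⟶ N.restrict (j i) => φ.app W' s) h1

section Affine

variable {Y : Scheme.{u}} {V : Y.Opens} (hV : IsAffineOpen V) (D : Type u) [CommRing D] [Algebra Γ(Y, V) D]

/-- The map of an algebra over an affine open into the scheme. -/
noncomputable abbrev toY : Spec (CommRingCat.of D) ⟶ Y :=
  Spec.map (CommRingCat.ofHom (algebraMap Γ(Y, V) D)) ≫ hV.fromSpec

theorem toY_preimage : (toY hV D) ⁻¹ᵁ V = ⊤ := by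
  rw [Scheme.Hom.comp_preimage, hV.fromSpec_preimage_self]
  rfl

theorem toY_appLE (e : ⊤ ≤ (toY hV D) ⁻¹ᵁ V) :
    (toY hV D).appLE V ⊤ e ≫ (Scheme.ΓSpecIso (CommRingCat.of D)).hom =
      CommRingCat.ofHom (algebraMap Γ(Y, V) D) := by
  rw [← Scheme.Hom.appLE_comp_appLE (Spec.map (CommRingCat.ofHom (algebraMap Γ(Y, V) D))) hV.fromSpec V ⊤ ⊤
    hV.fromSpec_preimage_self.ge le_rfl, Category.assoc]
  rw [show (Spec.map (CommRingCat.ofHom (algebraMap Γ(Y, V) D))).appLE ⊤ ⊤ le_rfl =
    (Spec.map (CommRingCat.ofHom (algebraMap Γ(Y, V) D))).appTop from Scheme.Hom.appLE_eq_app _,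
    Scheme.ΓSpecIso_naturality, Scheme.Hom.appLE, hV.fromSpec_app_self]
  simp only [Category.assoc]
  erw [← Functor.map_comp_assoc]
  erw [Subsingleton.elim (_ ≫ _ : Opposite.op _ ⟶ Opposite.op _) (𝟙 _), CategoryTheory.Functor.map_id,
    Category.id_comp, Iso.inv_hom_id_assoc]

variable {G F : Y.Modules} [Coh.IsQCoh G] [Coh.IsQCoh F] (σ : G ⟶ F)

/-- Vanishing of the pullback over an affine chart is vanishing of the sections. -/
theorem pullback_map_eq_zero_iff :
    (Scheme.Modules.pullback (toY hV D)).map σ = 0 ↔ ∀ s : Γ(G, V), (1 : D) ⊗ₜ[Γ(Y, V)] σ.app V s = 0 := by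
  let h := toY hV D
  have e : (⊤ : (Spec (CommRingCat.of D)).Opens) ≤ h ⁻¹ᵁ V := (toY_preimage hV D).ge
  letI := (h.appLE V ⊤ e).hom.toAlgebra
  obtain ⟨Φ, hΦ⟩ := exists_pullEquiv h F e hV (isAffineOpen_top _)
  let ε : Γ(Spec (CommRingCat.of D), ⊤) →ₐ[Γ(Y, V)] D :=
    { (Scheme.ΓSpecIso (CommRingCat.of D)).hom.hom with
      commutes' := fun r => congr($(toY_appLE hV D e) r) }
  have hε : Function.Injective ε.toLinearMap :=
    (Scheme.ΓSpecIso (CommRingCat.of D)).commRingCatIsoToRingEquiv.injective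
  let E := LinearEquiv.ofBijective ε.toLinearMap
    ⟨hε, (Scheme.ΓSpecIso (CommRingCat.of D)).commRingCatIsoToRingEquiv.surjective⟩
  have key : ∀ m : Γ(F, V), res' h F e m = 0 ↔ (1 : D) ⊗ₜ[Γ(Y, V)] m = 0 := by
    intro m
    rw [← one_smul Γ(Spec (CommRingCat.of D), ⊤) (res' h F e m), ← hΦ, Φ.map_eq_zero_iff,
      ← (E.rTensor Γ(F, V)).map_eq_zero_iff, LinearEquiv.rTensor_tmul]
    rw [show E 1 = 1 from map_one ε]
  refine ⟨fun hz s => (key _).1 ?_, fun hs => ?_⟩
  · rw [← map_res', hz]; rfl
  · haveI := M1.isQCoh_pullback h (M := G) ‹_›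
    refine hom_eq_zero_of_generators _ fun x =>
      ⟨⊤, Set.range (res' h G e), trivial, isAffineOpen_top _, ?_, ?_⟩
    · refine eq_top_iff.2 ?_
      rintro t -
      induction t using pullback_induction h G e hV (isAffineOpen_top _) with
      | h0 => exact Submodule.zero_mem _
      | hadd a b ha hb => exact Submodule.add_mem _ ha hb
      | hres c s => exact Submodule.smul_mem _ c (Submodule.subset_span ⟨s, rfl⟩)
    · rintro _ ⟨s, rfl⟩
      rw [map_res']
      exact (key _).2 (hs s)

end Affine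

section Chart

variable {R : Type u} [CommRing R] {Y : Scheme.{u}} (q : Y ⟶ Spec (CommRingCat.of R)) {V : Y.Opens} (hV : IsAffineOpen V)

/-- The sections over an open as an algebra over the base. -/
@[reducible] noncomputable def algV (V : Y.Opens) : Algebra R Γ(Y, V) :=
  ((Scheme.ΓSpecIso (CommRingCat.of R)).inv ≫ q.appLE ⊤ V le_top).hom.toAlgebra

/-- The sections of a module over an open as a module over the base. -/
@[reducible] noncomputable def modV (F : Y.Modules) (V : Y.Opens) : Module R Γ(F, V) :=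
  letI := algV q V
  Module.compHom Γ(F, V) (algebraMap R Γ(Y, V))

theorem fromSpec_comp :
    letI := algV q V
    hV.fromSpec ≫ q = Spec.map (CommRingCat.ofHom (algebraMap R Γ(Y, V))) := by
  letI := algV q V
  rw [← IsAffineOpen.SpecMap_appLE_fromSpec q (isAffineOpen_top (Spec (CommRingCat.of R))) hV le_top,
    IsAffineOpen.fromSpec_top, Scheme.isoSpec_Spec_inv, ← Spec.map_comp]
  rfl

variable (C : Type u) [CommRing C] [Algebra R C]

/-- A chart of the base change. -/
noncomputable def chart :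
    letI := algV q V
    Spec (CommRingCat.of (Γ(Y, V) ⊗[R] C)) ⟶ pullback q (Spec.map (CommRingCat.ofHom (algebraMap R C))) :=
  letI := algV q V
  (pullbackSpecIso R Γ(Y, V) C).inv ≫ pullback.map _ _ q _ hV.fromSpec (𝟙 _) (𝟙 _)
    (by rw [Category.comp_id]; exact (fromSpec_comp q hV).symm) (by simp)

theorem isOpenImmersion_chart : IsOpenImmersion (chart q hV C) := by
  unfold chart; infer_instance

theorem chart_fst :
    letI := algV q V
    chart q hV C ≫ pullback.fst _ _ = toY hV (Γ(Y, V) ⊗[R] C) := by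
  letI := algV q V
  rw [chart, Category.assoc, pullback.map, pullback.lift_fst, pullbackSpecIso_inv_fst'_assoc]

theorem chart_snd :
    letI := algV q V
    chart q hV C ≫ pullback.snd _ _ =
      Spec.map (CommRingCat.ofHom (Algebra.TensorProduct.includeRight (R := R) (A := Γ(Y, V)) (B := C)).toRingHom) := by
  letI := algV q V
  rw [chart, Category.assoc, pullback.map, pullback.lift_snd, Category.comp_id, pullbackSpecIso_inv_snd]
  rfl

theorem range_chart :
    Set.range (chart q hV C) = (pullback.fst q (Spec.map (CommRingCat.ofHom (algebraMap R C)))) ⁻¹' (V : Set Y) := by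
  letI := algV q V
  rw [chart, Scheme.Hom.comp_base, TopCat.coe_comp, Set.range_comp,
    Set.range_eq_univ.2 (Surjective.surj (f := (pullbackSpecIso R _ C).inv)), Set.image_univ,
    Scheme.Pullback.range_map]
  erw [hV.range_fromSpec]
  simp

variable {G F : Y.Modules} [Coh.IsQCoh G] [Coh.IsQCoh F] (σ : G ⟶ F)

/-- Vanishing over a chart of the base change. -/
theorem chart_map_eq_zero_iff :
    letI := algV q V
    letI := modV q F V
    (Scheme.Modules.pullback (chart q hV C)).map ((Scheme.Modules.pullback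
      (pullback.fst q (Spec.map (CommRingCat.ofHom (algebraMap R C))))).map σ) = 0 ↔
      ∀ s : Γ(G, V), (1 : C) ⊗ₜ[R] σ.app V s = 0 := by
  letI := algV q V
  letI := modV q F V
  haveI : IsScalarTower R Γ(Y, V) Γ(F, V) := IsScalarTower.of_algebraMap_smul fun _ _ => rfl
  have h1 : (Scheme.Modules.pullback (toY hV (Γ(Y, V) ⊗[R] C))).map σ = 0 ↔
      (Scheme.Modules.pullback (chart q hV C)).map ((Scheme.Modules.pullback
        (pullback.fst q (Spec.map (CommRingCat.ofHom (algebraMap R C))))).map σ) = 0 := by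
    let c := cmp (chart q hV C) (pullback.fst q (Spec.map (CommRingCat.ofHom (algebraMap R C)))) (chart_fst q hV C)
    have hn := c.hom.naturality σ
    simp only [Functor.comp_map] at hn
    constructor
    · intro h
      rw [h, Limits.comp_zero] at hn
      exact (cancel_mono (c.hom.app F)).1 (hn.trans Limits.zero_comp.symm)
    · intro h
      rw [h, Limits.zero_comp] at hn
      exact (cancel_epi (c.hom.app G)).1 (hn.symm.trans Limits.comp_zero.symm)
  rw [← h1, pullback_map_eq_zero_iff hV]
  refine forall_congr' fun s => ?_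
  let e := ((TensorProduct.comm Γ(Y, V) (Γ(Y, V) ⊗[R] C) Γ(F, V)).restrictScalars R).trans
    (((TensorProduct.AlgebraTensorModule.cancelBaseChange R Γ(Y, V) Γ(Y, V) Γ(F, V) C).restrictScalars R).trans
      (TensorProduct.comm R Γ(F, V) C))
  rw [← e.map_eq_zero_iff]
  simp [e, Algebra.TensorProduct.one_def]

end Chart

end Groth.Agent.VanRep13
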