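import Groth.Agent.Lib.VanRep13.Spread

/-!
# The vanishing ideal over a Noetherian ring
-/

set_option autoImplicit false
set_option linter.style.haveILetI false
universe u

open scoped TensorProduct
open IsLocalRing

namespace Groth.Agent.VanRep13

/-- An ideal cannot shrink below generators whose coefficients are independent in the closed fibre. -/
theorem span_le_of_linearIndependent {R : Type u} [CommRing R] [IsLocalRing R] {N : Type u} [AddCommGroup N]
    [Module R N] [Module.Flat R N] {ι : Type u} {r : ℕ} (a : Fin r → R) (J : Ideal R)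
    (hJ : J ≤ Ideal.span (Set.range a)) (x : ι → N) (y : ι → Fin r → N) (hx : ∀ i, x i = ∑ l, a l • y i l)
    (hxJ : ∀ i, x i ∈ J • (⊤ : Submodule R N))
    (hli : LinearIndependent (ResidueField R) fun l => fun i => (1 : ResidueField R) ⊗ₜ[R] y i l) :
    Ideal.span (Set.range a) ≤ J := by
  classical
  let I := Ideal.span (Set.range a)
  by_contra hne
  let W := I ⧸ Submodule.comap I.subtype J
  haveI : Module.Finite R I := Module.Finite.iff_fg.2 (Submodule.fg_span (Set.finite_range a))
  haveI : Nontrivial W := by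
    rw [Submodule.Quotient.nontrivial_iff]
    exact fun h => hne fun z hz => (h ▸ Submodule.mem_top : (⟨z, hz⟩ : I) ∈ Submodule.comap I.subtype J)
  haveI : Nontrivial (ResidueField R ⊗[R] W) := by
    rw [← not_subsingleton_iff_nontrivial]
    intro h
    exact not_subsingleton W (IsLocalRing.subsingleton_tensorProduct.1 h)
  obtain ⟨v, hv⟩ := exists_ne (0 : ResidueField R ⊗[R] W)
  obtain ⟨φ, hφ⟩ : ∃ φ : Module.Dual (ResidueField R) (ResidueField R ⊗[R] W), φ v ≠ 0 := by
    by_contra! h
    exact hv ((Module.forall_dual_apply_eq_zero_iff _ v).1 h)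
  let lam : I →ₗ[R] ResidueField R :=
    (φ.restrictScalars R) ∘ₗ TensorProduct.mk R (ResidueField R) W 1 ∘ₗ Submodule.mkQ _
  have hlamJ : lam ∘ₗ Submodule.inclusion hJ = 0 := by
    refine LinearMap.ext fun z => ?_
    show φ ((1 : ResidueField R) ⊗ₜ[R] Submodule.Quotient.mk (Submodule.inclusion hJ z)) = 0
    rw [(Submodule.Quotient.mk_eq_zero _).2 (show Submodule.inclusion hJ z ∈ _ from z.2), TensorProduct.tmul_zero,
      map_zero]
  let b : Fin r → I := fun l => ⟨a l, Ideal.subset_span ⟨l, rfl⟩⟩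
  let mulI : I ⊗[R] N →ₗ[R] N := TensorProduct.lift ((LinearMap.lsmul R N) ∘ₗ I.subtype)
  have hinj : Function.Injective mulI := Module.Flat.iff_lift_lsmul_comp_subtype_injective.1 inferInstance
    (Submodule.fg_span (Set.finite_range a))
  have hzero : ∀ i, ∑ l, lam (b l) • ((1 : ResidueField R) ⊗ₜ[R] y i l) = 0 := by
    intro i
    have hw : ∃ w : J ⊗[R] N, mulI ((Submodule.inclusion hJ).rTensor N w) = x i := by
      refine Submodule.smul_induction_on (hxJ i) (fun c hc n _ => ⟨⟨c, hc⟩ ⊗ₜ[R] n, ?_⟩) fun u v hu hv => ?_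
      · simp [mulI]
      · obtain ⟨wu, hu⟩ := hu
        obtain ⟨wv, hv⟩ := hv
        exact ⟨wu + wv, by rw [map_add, map_add, hu, hv]⟩
    obtain ⟨w, hw⟩ := hw
    have he : (Submodule.inclusion hJ).rTensor N w = ∑ l, b l ⊗ₜ[R] y i l := by
      refine hinj ?_
      rw [hw, map_sum, hx i]
      simp [mulI, b]
    have h := congrArg (lam.rTensor N) he
    rw [← LinearMap.comp_apply, ← LinearMap.rTensor_comp, hlamJ, LinearMap.rTensor_zero, LinearMap.zero_apply,
      map_sum] at h
    rw [h]
    refine Finset.sum_congr rfl fun l _ => ?_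
    rw [LinearMap.rTensor_tmul, TensorProduct.smul_tmul', smul_eq_mul, mul_one]
  have hlam : ∀ l, lam (b l) = 0 := Fintype.linearIndependent_iff.1 hli _ <| funext fun i => by
    simpa using hzero i
  have hall : ∀ z : I, lam z = 0 := by
    intro z
    obtain ⟨c, hc⟩ := Submodule.mem_span_range_iff_exists_fun _ |>.1 z.2
    have : z = ∑ l, c l • b l := Subtype.ext (by simp [b, hc.symm])
    rw [this, map_sum]
    simp [hlam]
  refine hφ ?_
  have hsurj : Function.Surjective (TensorProduct.mk R (ResidueField R) W 1) :=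
    TensorProduct.mk_surjective R W _ IsLocalRing.residue_surjective
  obtain ⟨w, rfl⟩ := hsurj v
  obtain ⟨z, rfl⟩ := Submodule.Quotient.mk_surjective _ w
  exact hall z

/-- Functionals detecting an independent family in a free module over a domain. -/
theorem exists_functional {D : Type u} [CommRing D] [IsDomain D] {F : Type u} [AddCommGroup F] [Module D F]
    [Module.Free D F] {r : ℕ} (w : Fin r → F) (hw : LinearIndependent D w) :
    ∃ d : D, d ≠ 0 ∧ ∃ f : Fin r → (F →ₗ[D] D), ∀ l j, f l (w j) = if l = j then d else 0 := by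
  classical
  let K := FractionRing D
  let bas := Module.Free.chooseBasis D F
  let ι := Module.Free.ChooseBasisIndex D F
  let ψ : F →ₗ[D] ι →₀ K := Finsupp.mapRange.linearMap (Algebra.linearMap D K) ∘ₗ bas.repr.toLinearMap
  have hψ : Function.Injective ψ := (Finsupp.mapRange_injective _ (map_zero _)
    (IsFractionRing.injective D K)).comp bas.repr.injective
  have hK : LinearIndependent K (ψ ∘ w) :=
    (LinearIndependent.iff_fractionRing (R := D) (K := K)).1 (hw.map' ψ (LinearMap.ker_eq_bot.2 hψ))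
  obtain ⟨Lf, hLf⟩ := LinearMap.exists_leftInverse_of_injective (Finsupp.linearCombination K (ψ ∘ w))
    (LinearMap.ker_eq_bot.2 hK)
  have hL : ∀ l j, Lf (ψ (w j)) l = if l = j then 1 else 0 := by
    intro l j
    have := congrArg (fun q => q l) (LinearMap.congr_fun hLf (Finsupp.single j 1))
    simp only [LinearMap.comp_apply, Finsupp.linearCombination_single, one_smul, Function.comp_apply,
      LinearMap.id_apply, Finsupp.single_apply] at this
    rw [this]
    simp [eq_comm]
  let s : Finset ι := Finset.univ.biUnion fun j => (bas.repr (w j)).support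
  obtain ⟨d, hd⟩ := IsLocalization.exist_integer_multiples (nonZeroDivisors D) (Finset.univ ×ˢ s)
    (fun li : Fin r × ι => Lf (Finsupp.single li.2 1) li.1)
  choose e he using fun (l : Fin r) (i : s) => hd (l, i.1) (Finset.mem_product.2 ⟨Finset.mem_univ _, i.2⟩)
  refine ⟨d, nonZeroDivisors.coe_ne_zero d,
    fun l => (Finsupp.linearCombination D fun i => if h : i ∈ s then e l ⟨i, h⟩ else 0) ∘ₗ bas.repr.toLinearMap,
    fun l j => IsFractionRing.injective D K ?_⟩
  have hs : (bas.repr (w j)).support ⊆ s :=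
    Finset.subset_biUnion_of_mem (fun j => (bas.repr (w j)).support) (Finset.mem_univ j)
  have hsum : Lf (ψ (w j)) l = ∑ i ∈ s, algebraMap D K (bas.repr (w j) i) * Lf (Finsupp.single i 1) l := by
    have : ψ (w j) = ∑ i ∈ s, algebraMap D K (bas.repr (w j) i) • Finsupp.single i (1 : K) := by
      ext i
      simp only [ψ, LinearMap.comp_apply, LinearEquiv.coe_coe, Finsupp.mapRange.linearMap_apply,
        Finsupp.mapRange_apply, Algebra.linearMap_apply, Finsupp.finsetSum_apply, Finsupp.smul_apply,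
        Finsupp.single_apply, smul_eq_mul, mul_ite, mul_one, mul_zero, Finset.sum_ite_eq']
      split_ifs with h
      · rfl
      · rw [Finsupp.notMem_support_iff.1 fun h' => h (hs h'), map_zero]
    rw [this, map_sum, Finsupp.finsetSum_apply]
    simp only [map_smul, Finsupp.smul_apply, smul_eq_mul]
  simp only [LinearMap.comp_apply, LinearEquiv.coe_coe]
  rw [Finsupp.linearCombination_apply, Finsupp.sum_of_support_subset _ hs
    (fun i a => a • if h : i ∈ s then e l ⟨i, h⟩ else 0) (fun i _ => zero_smul D _), map_sum]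
  have hd' : algebraMap D K (if l = j then (d : D) else 0) = algebraMap D K (d : D) * Lf (ψ (w j)) l := by
    rw [hL]; split_ifs <;> simp
  rw [hd', hsum, Finset.mul_sum]
  refine Finset.sum_congr rfl fun i hi => ?_
  rw [smul_eq_mul, map_mul, dif_pos hi, he l ⟨i, hi⟩, Algebra.smul_def]
  ring

variable {A : Type u} [CommRing A] {M : Type u} [AddCommGroup M] [Module A M]

/-- Generic freeness of `M` along every integral closed subscheme. -/
def GenFree (A : Type u) [CommRing A] (M : Type u) [AddCommGroup M] [Module A M] : Prop :=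
  ∀ (p : Ideal A) [p.IsPrime], ∃ g : A, g ∉ p ∧
    Module.Free (Localization.Away (Ideal.Quotient.mk p g)) (Localization.Away (Ideal.Quotient.mk p g) ⊗[A] M)

/-- Independence in the fibre spreads out along the closure of a point. -/
theorem exists_forall_linearIndependent (hGF : GenFree A M) (p : Ideal A) [p.IsPrime] {ι : Type u} [Fintype ι] {r : ℕ}
    (m : ι → Fin r → M)
    (hli : LinearIndependent p.ResidueField fun l => fun t => (1 : p.ResidueField) ⊗ₜ[A] m t l) :
    ∃ g : A, g ∉ p ∧ ∀ (q : Ideal A) [q.IsPrime], p ≤ q → g ∉ q →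
      LinearIndependent q.ResidueField fun l => fun t => (1 : q.ResidueField) ⊗ₜ[A] m t l := by
  classical
  obtain ⟨g₀, hg₀, hfree⟩ := hGF p
  let g' := Ideal.Quotient.mk p g₀
  let D := Localization.Away g'
  have hg' : g' ≠ 0 := fun h => hg₀ (Ideal.Quotient.eq_zero_iff_mem.1 h)
  haveI : IsDomain D := IsLocalization.isDomain_localization (powers_le_nonZeroDivisors_of_noZeroDivisors hg')
  have hρ : ∀ (q : Ideal A) [q.IsPrime], p ≤ q → g₀ ∉ q → ∃ ρ : D →+* q.ResidueField,
      ∀ a : A, ρ (algebraMap A D a) = algebraMap A q.ResidueField a := by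
    intro q _ hpq hgq
    let φ : A ⧸ p →+* q.ResidueField := Ideal.Quotient.lift p (algebraMap A q.ResidueField)
      fun a ha => Ideal.algebraMap_residueField_eq_zero.2 (hpq ha)
    have hu : IsUnit (φ g') := by
      refine isUnit_iff_ne_zero.2 fun h => hgq (Ideal.algebraMap_residueField_eq_zero.1 ?_)
      exact h
    refine ⟨IsLocalization.Away.lift g' hu, fun a => ?_⟩
    rw [IsScalarTower.algebraMap_apply A (A ⧸ p) D, IsLocalization.Away.lift_eq]
    rfl
  obtain ⟨ρ, hρ'⟩ := hρ p le_rfl hg₀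
  have hDsurj : ∀ c : D, ∃ a : A, ∃ n : ℕ, c * algebraMap A D g₀ ^ n = algebraMap A D a := by
    intro c
    obtain ⟨⟨a, ⟨_, n, rfl⟩⟩, h⟩ := IsLocalization.surj (Submonoid.powers g') c
    obtain ⟨a, rfl⟩ := Ideal.Quotient.mk_surjective a
    refine ⟨a, n, ?_⟩
    rw [IsScalarTower.algebraMap_apply A (A ⧸ p) D, IsScalarTower.algebraMap_apply A (A ⧸ p) D]
    simpa [g'] using h
  have hunit : IsUnit (algebraMap A D g₀) := by
    rw [IsScalarTower.algebraMap_apply A (A ⧸ p) D]
    exact IsLocalization.Away.algebraMap_isUnit g'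
  have hρinj : ∀ c : D, ρ c = 0 → c = 0 := by
    intro c hc
    obtain ⟨a, n, h⟩ := hDsurj c
    have h1 : algebraMap A p.ResidueField a = 0 := by rw [← hρ', ← h, map_mul, hc, zero_mul]
    have h2 : algebraMap A D a = 0 := by
      rw [IsScalarTower.algebraMap_apply A (A ⧸ p) D, Ideal.Quotient.algebraMap_eq,
        Ideal.Quotient.eq_zero_iff_mem.2 (Ideal.algebraMap_residueField_eq_zero.1 h1), map_zero]
    exact (hunit.pow n).mul_left_eq_zero.1 (h.trans h2)
  have hw : LinearIndependent D fun l => fun t : ι => (1 : D) ⊗ₜ[A] m t l := by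
    rw [Fintype.linearIndependent_iff]
    intro c hc l
    refine hρinj _ (Fintype.linearIndependent_iff.1 hli (fun l => ρ (c l)) (funext fun t => ?_) l)
    let ρₐ : D →ₐ[A] p.ResidueField := ⟨ρ, hρ'⟩
    have h := congrArg (ρₐ.toLinearMap.rTensor M) (congrFun hc t)
    simp only [Finset.sum_apply, Pi.smul_apply, TensorProduct.smul_tmul', smul_eq_mul, mul_one, map_sum,
      LinearMap.rTensor_tmul, Pi.zero_apply, map_zero] at h ⊢
    exact h
  obtain ⟨d, hd, f, hf⟩ := exists_functional _ hw
  obtain ⟨a, n, ha⟩ := hDsurj d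
  have hap : a ∉ p := fun h => hd ((hunit.pow n).mul_left_eq_zero.1 (ha.trans (by
    rw [IsScalarTower.algebraMap_apply A (A ⧸ p) D, Ideal.Quotient.algebraMap_eq,
      Ideal.Quotient.eq_zero_iff_mem.2 h, map_zero])))
  refine ⟨g₀ * a, fun h => ((Ideal.IsPrime.mem_or_mem inferInstance h).elim hg₀ hap), fun q _ hpq hgq => ?_⟩
  obtain ⟨σ, hσ⟩ := hρ q hpq fun h => hgq (Ideal.mul_mem_right _ _ h)
  let σₐ : D →ₐ[A] q.ResidueField := ⟨σ, hσ⟩
  let φ : Fin r → ι → (M →ₗ[A] q.ResidueField) := fun l t =>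
    σₐ.toLinearMap ∘ₗ ((f l ∘ₗ LinearMap.single D (fun _ : ι => D ⊗[A] M) t).restrictScalars A)
      ∘ₗ TensorProduct.mk A D M 1
  let Φ : Fin r → ι → (q.ResidueField ⊗[A] M →ₗ[q.ResidueField] q.ResidueField) := fun l t =>
    (φ l t).liftBaseChange q.ResidueField
  have hΦ : ∀ l j, ∑ t, Φ l t ((1 : q.ResidueField) ⊗ₜ[A] m t j) = if l = j then σ d else 0 := by
    intro l j
    simp only [Φ, φ, LinearMap.liftBaseChange_tmul, one_smul, LinearMap.comp_apply, LinearMap.restrictScalars_apply,
      TensorProduct.mk_apply, AlgHom.toLinearMap_apply]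
    rw [← map_sum σₐ, ← map_sum (f l), show ∑ x, LinearMap.single D (fun _ : ι => D ⊗[A] M) x ((1 : D) ⊗ₜ[A] m x j) =
      fun x => (1 : D) ⊗ₜ[A] m x j from Finset.univ_sum_single (fun x => (1 : D) ⊗ₜ[A] m x j), hf]
    show σ _ = _
    split_ifs <;> simp
  have hσd : σ d ≠ 0 := by
    intro h
    have := congrArg σ ha
    rw [map_mul, h, zero_mul, hσ] at this
    exact hgq (Ideal.mul_mem_left _ _ (Ideal.algebraMap_residueField_eq_zero.1 this.symm))
  rw [Fintype.linearIndependent_iff]
  intro c hc l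
  have h : ∑ t, Φ l t ((∑ j, c j • fun t => (1 : q.ResidueField) ⊗ₜ[A] m t j) t) = 0 := by
    rw [hc]; simp
  simp only [Finset.sum_apply, Pi.smul_apply, map_sum, map_smul, smul_eq_mul] at h
  rw [Finset.sum_comm] at h
  simp only [← Finset.mul_sum, hΦ, mul_ite, mul_zero, Finset.sum_ite_eq, Finset.mem_univ, if_true] at h
  exact (mul_eq_zero.1 h).resolve_right hσd

/-- Openness criterion: stable under generisation and open along the closure of each of its points. -/
theorem exists_nhd [IsNoetherianRing A] (U : PrimeSpectrum A → Prop) (hgen : ∀ p q, q ≤ p → U p → U q)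
    (hspr : ∀ p, U p → ∃ g ∉ p.asIdeal, ∀ q, p ≤ q → g ∉ q.asIdeal → U q) (p : PrimeSpectrum A) (hp : U p) :
    ∃ g ∉ p.asIdeal, ∀ q, g ∉ q.asIdeal → U q := by
  suffices H : ∀ I : Ideal A, ∃ g ∉ p.asIdeal, ∀ q : PrimeSpectrum A, I ≤ q.asIdeal → g ∉ q.asIdeal → U q by
    obtain ⟨g, hg, h⟩ := H ⊥
    exact ⟨g, hg, fun q hq => h q bot_le hq⟩
  intro I
  induction I using IsNoetherian.induction with
  | hgt I ih =>
    by_cases htop : I = ⊤
    · exact ⟨1, (Ideal.ne_top_iff_one _).1 p.isPrime.ne_top,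
        fun q hq => absurd (top_le_iff.1 (htop ▸ hq)) q.isPrime.ne_top⟩
    by_cases hI : Ideal.IsPrime (I : Ideal A)
    · by_cases hle : I ≤ p.asIdeal
      · obtain ⟨g₀, hg₀, h₀⟩ := hspr ⟨I, hI⟩ (hgen p ⟨I, hI⟩ hle hp)
        obtain ⟨g, hg, h⟩ := ih (I ⊔ Ideal.span {g₀}) (lt_of_le_of_ne le_sup_left fun e => hg₀ (by
          show g₀ ∈ I
          rw [e]; exact Submodule.mem_sup_right (Ideal.mem_span_singleton_self g₀)))
        refine ⟨g, hg, fun q hq hgq => ?_⟩
        by_cases hq₀ : g₀ ∈ q.asIdeal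
        · exact h q (sup_le hq ((Ideal.span_singleton_le_iff_mem _).2 hq₀)) hgq
        · exact h₀ q hq hq₀
      · obtain ⟨g, hgI, hg⟩ := SetLike.not_le_iff_exists.1 hle
        exact ⟨g, hg, fun q hq hgq => absurd (hq hgI) hgq⟩
    · obtain ⟨x, hx, y, hy, hxy⟩ := (Ideal.not_isPrime_iff.1 hI).resolve_left htop
      obtain ⟨g₁, hg₁, h₁⟩ := ih (I ⊔ Ideal.span {x}) (lt_of_le_of_ne le_sup_left fun e => hx (by
        rw [e]; exact Submodule.mem_sup_right (Ideal.mem_span_singleton_self x)))
      obtain ⟨g₂, hg₂, h₂⟩ := ih (I ⊔ Ideal.span {y}) (lt_of_le_of_ne le_sup_left fun e => hy (by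
        rw [e]; exact Submodule.mem_sup_right (Ideal.mem_span_singleton_self y)))
      refine ⟨g₁ * g₂, fun h => (p.isPrime.mem_or_mem h).elim hg₁ hg₂, fun q hq hgq => ?_⟩
      rcases q.isPrime.mem_or_mem (hq hxy) with h | h
      · exact h₁ q (sup_le hq ((Ideal.span_singleton_le_iff_mem _).2 h)) fun h' => hgq (Ideal.mul_mem_right _ _ h')
      · exact h₂ q (sup_le hq ((Ideal.span_singleton_le_iff_mem _).2 h)) fun h' => hgq (Ideal.mul_mem_left _ _ h')

/-- The vanishing ideal over a Noetherian ring. -/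
theorem exists_rep [IsNoetherianRing A] [Module.Flat A M] (T : Finset M) (hS : Sep A (↑T : Set M))
    (hGF : GenFree A M) : ∃ J : Ideal A, Rep (↑T : Set M) J := by
  classical
  let L : PrimeSpectrum A → Type u := fun q => Localization.AtPrime q.asIdeal
  choose J hJ using fun q : PrimeSpectrum A =>
    exists_rep_local (L := Localization.AtPrime q.asIdeal) _ (hS.img (Localization.AtPrime q.asIdeal))
  have hvan : ∀ q : PrimeSpectrum A, Van A (↑T : Set M) (Localization.AtPrime q.asIdeal ⧸ J q) :=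
    fun q => (van_img _ _).1 (hJ q).van
  have hmin : ∀ (q : PrimeSpectrum A) (J' : Ideal (Localization.AtPrime q.asIdeal)),
      Van A (↑T : Set M) (Localization.AtPrime q.asIdeal ⧸ J') → J q ≤ J' :=
    fun q J' h => (hJ q).least ((van_img _ _).2 h)
  have hgen : ∀ (a : A) (p q : PrimeSpectrum A), q ≤ p → algebraMap A _ a ∈ J p → algebraMap A _ a ∈ J q := by
    intro a p q hqp ha
    let C := Localization.AtPrime q.asIdeal ⧸ J q
    let β : Localization.AtPrime p.asIdeal →+* C := IsLocalization.lift (M := p.asIdeal.primeCompl)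
      (g := algebraMap A C) fun s => by
        rw [IsScalarTower.algebraMap_apply A (Localization.AtPrime q.asIdeal) C]
        exact (IsLocalization.map_units (Localization.AtPrime q.asIdeal)
          (⟨s.1, fun h => s.2 (hqp h)⟩ : q.asIdeal.primeCompl)).map _
    letI : Algebra (Localization.AtPrime p.asIdeal) C := β.toAlgebra
    haveI : IsScalarTower A (Localization.AtPrime p.asIdeal) C :=
      IsScalarTower.of_algebraMap_eq fun x => (IsLocalization.lift_eq _ x).symm
    have h1 := (hJ p C).1 ((van_img _ C).2 (hvan q)) ha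
    rw [RingHom.mem_ker, ← IsScalarTower.algebraMap_apply, IsScalarTower.algebraMap_apply A (Localization.AtPrime q.asIdeal) C,
      Ideal.Quotient.algebraMap_eq, Ideal.Quotient.eq_zero_iff_mem] at h1
    exact h1
  have hgens : ∀ p : PrimeSpectrum A, ∃ (r : ℕ) (a : Fin r → A),
      gens a (Localization.AtPrime p.asIdeal) = J p ∧ r = (J p).spanFinrank := by
    intro p
    obtain ⟨fs, hfc, hfs⟩ := Submodule.FG.exists_span_finset_card_eq_spanFinrank (IsNoetherian.noetherian (J p))
    let f : Fin (J p).spanFinrank → Localization.AtPrime p.asIdeal := fun l => (fs.equivFinOfCardEq hfc).symm l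
    have hf : Ideal.span (Set.range f) = J p := by
      refine Eq.trans ?_ hfs
      rw [show Set.range f = (↑fs : Set _) by
        rw [show f = Subtype.val ∘ (fs.equivFinOfCardEq hfc).symm from rfl, Set.range_comp, Equiv.range_eq_univ,
          Set.image_univ, Subtype.range_coe_subtype]; rfl]
    choose as hs using fun l => IsLocalization.surj p.asIdeal.primeCompl (f l)
    refine ⟨_, fun l => (as l).1, ?_, rfl⟩
    refine le_antisymm ((Ideal.span_le.2 ?_).trans_eq hf) (hf.symm.trans_le (Ideal.span_le.2 ?_))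
    · rintro _ ⟨l, rfl⟩
      show algebraMap A _ (as l).1 ∈ _
      rw [← hs l]
      exact Ideal.mul_mem_right _ _ (Ideal.subset_span ⟨l, rfl⟩)
    · rintro _ ⟨l, rfl⟩
      obtain ⟨w, hw⟩ := IsLocalization.map_units (Localization.AtPrime p.asIdeal) (as l).2
      show f l ∈ _
      rw [show f l = algebraMap A _ (as l).1 * ↑w⁻¹ by rw [← hs l, ← hw, w.mul_inv_cancel_right]]
      exact Ideal.mul_mem_right _ _ (Ideal.subset_span ⟨l, rfl⟩)
  have hrel : ∀ p : PrimeSpectrum A, ∃ (r : ℕ) (a : Fin r → A) (g : A), g ∉ p.asIdeal ∧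
      gens a (Localization.AtPrime p.asIdeal) = J p ∧
      (∀ t ∈ T, g • t ∈ Ideal.span (Set.range a) • (⊤ : Submodule A M)) ∧
      (∀ q : PrimeSpectrum A, g ∉ q.asIdeal → J q ≤ gens a (Localization.AtPrime q.asIdeal)) ∧
      ∀ q : PrimeSpectrum A, p ≤ q → g ∉ q.asIdeal → gens a (Localization.AtPrime q.asIdeal) ≤ J q := by
    intro p
    obtain ⟨r, a, ha, hr⟩ := hgens p
    obtain ⟨g, hg, m, hm⟩ := exists_relations p.asIdeal T a (ha ▸ hvan p)
    have hli := linearIndependent_relations p.asIdeal T a (J p) ha hr (hmin p) hg hm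
    obtain ⟨g', hg', hli'⟩ := exists_forall_linearIndependent hGF p.asIdeal (fun t : T => m t) hli
    have hle : ∀ q : PrimeSpectrum A, g ∉ q.asIdeal → J q ≤ gens a (Localization.AtPrime q.asIdeal) := by
      intro q hgq
      refine hmin q _ fun t ht => ?_
      let C := Localization.AtPrime q.asIdeal ⧸ gens a (Localization.AtPrime q.asIdeal)
      have hu : IsUnit (algebraMap A C g) := by
        rw [IsScalarTower.algebraMap_apply A (Localization.AtPrime q.asIdeal) C]
        exact (IsLocalization.map_units (Localization.AtPrime q.asIdeal) (⟨g, hgq⟩ : q.asIdeal.primeCompl)).map _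
      have h0 : algebraMap A C g • ((1 : C) ⊗ₜ[A] t) = 0 := by
        rw [algebraMap_smul, ← TensorProduct.tmul_smul, hm t ht, TensorProduct.tmul_sum]
        refine Finset.sum_eq_zero fun l _ => ?_
        rw [TensorProduct.tmul_smul, TensorProduct.smul_tmul', Algebra.smul_def, mul_one,
          IsScalarTower.algebraMap_apply A (Localization.AtPrime q.asIdeal) C, Ideal.Quotient.algebraMap_eq,
          Ideal.Quotient.eq_zero_iff_mem.2 (show algebraMap A _ (a l) ∈ gens a (Localization.AtPrime q.asIdeal) from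
            Ideal.subset_span ⟨l, rfl⟩), TensorProduct.zero_tmul]
      exact hu.smul_eq_zero.1 h0
    refine ⟨r, a, g * g', fun h => (p.isPrime.mem_or_mem h).elim hg hg', ha, fun t ht => ?_,
      fun q h => hle q fun h' => h (Ideal.mul_mem_right _ _ h'), fun q hpq h => ?_⟩
    · rw [mul_comm, mul_smul, hm t ht]
      exact Submodule.smul_mem _ _ (Submodule.sum_mem _ fun l _ =>
        Submodule.smul_mem_smul (Ideal.subset_span (Set.mem_range_self l)) Submodule.mem_top)
    · let R := Localization.AtPrime q.asIdeal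
      have hgq : g ∉ q.asIdeal := fun h' => h (Ideal.mul_mem_right _ _ h')
      refine span_le_of_linearIndependent (ι := ↥T) (fun l => algebraMap A R (a l)) (J q) (hle q hgq)
        (fun t : T => algebraMap A R g • ((1 : R) ⊗ₜ[A] (t : M))) (fun t l => (1 : R) ⊗ₜ[A] m t l) ?_ ?_ ?_
      · intro t
        simp only [algebraMap_smul, ← TensorProduct.tmul_smul, hm t t.2, TensorProduct.tmul_sum]
      · intro t
        exact Submodule.smul_mem _ _ ((van_quot_iff (A := R) (J q)).1 ((van_img R _).2 (hvan q)) _ ⟨t, t.2, rfl⟩)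
      · have hli2 := hli' q.asIdeal hpq fun h' => h (Ideal.mul_mem_left _ _ h')
        rw [Fintype.linearIndependent_iff] at hli2 ⊢
        refine fun c hc => hli2 c (funext fun t => ?_)
        have h1 := congrArg (TensorProduct.AlgebraTensorModule.cancelBaseChange A R (ResidueField R)
          (ResidueField R) M) (congrFun hc t)
        simp only [Finset.sum_apply, Pi.smul_apply, map_sum, map_smul, Pi.zero_apply, map_zero,
          TensorProduct.AlgebraTensorModule.cancelBaseChange_tmul, one_smul] at h1 ⊢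
        exact h1
  -- openness
  have hopen : ∀ (x : A) (p : PrimeSpectrum A), algebraMap A _ x ∈ J p →
      ∃ g ∉ p.asIdeal, ∀ q : PrimeSpectrum A, g ∉ q.asIdeal → algebraMap A _ x ∈ J q := by
    intro x p hx
    refine exists_nhd (fun q => algebraMap A (Localization.AtPrime q.asIdeal) x ∈ J q) (hgen x) (fun p hp => ?_) p hx
    obtain ⟨r, a, g, hg, ha, -, -, hspr⟩ := hrel p
    rw [← ha, show gens a (Localization.AtPrime p.asIdeal) = (Ideal.span (Set.range a)).map (algebraMap A _) by
      rw [Ideal.map_span, ← Set.range_comp]; rfl, IsLocalization.algebraMap_mem_map_algebraMap_iff p.asIdeal.primeCompl] at hp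
    obtain ⟨s, hs, hsx⟩ := hp
    refine ⟨g * s, fun h => (p.isPrime.mem_or_mem h).elim hg hs, fun q hpq h => ?_⟩
    refine hspr q hpq (fun h' => h (Ideal.mul_mem_right _ _ h')) ?_
    rw [show gens a (Localization.AtPrime q.asIdeal) = (Ideal.span (Set.range a)).map (algebraMap A _) by
      rw [Ideal.map_span, ← Set.range_comp]; rfl, IsLocalization.algebraMap_mem_map_algebraMap_iff q.asIdeal.primeCompl]
    exact ⟨s, fun h' => h (Ideal.mul_mem_left _ _ h'), hsx⟩
  -- a neighbourhood on which one ideal gives all the local ones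
  have hloc : ∀ p : PrimeSpectrum A, ∃ (K : Ideal A) (g : A), g ∉ p.asIdeal ∧
      (∀ t ∈ T, g • t ∈ K • (⊤ : Submodule A M)) ∧
      ∀ q : PrimeSpectrum A, g ∉ q.asIdeal → K.map (algebraMap A (Localization.AtPrime q.asIdeal)) = J q := by
    intro p
    obtain ⟨r, a, g, hg, ha, hT, hle, -⟩ := hrel p
    choose e he hK using fun l => hopen (a l) p (ha ▸ Ideal.subset_span ⟨l, rfl⟩)
    refine ⟨Ideal.span (Set.range a), g * ∏ l, e l, ?_, fun t ht => ?_, fun q h => ?_⟩
    · intro h
      rcases p.isPrime.mem_or_mem h with h | h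
      · exact hg h
      · obtain ⟨l, -, h'⟩ := Ideal.IsPrime.prod_mem_iff.1 h
        exact he l h'
    · rw [mul_comm, mul_smul]
      exact Submodule.smul_mem _ _ (hT t ht)
    · rw [Ideal.map_span, ← Set.range_comp]
      refine le_antisymm (Ideal.span_le.2 ?_) (hle q fun h' => h (Ideal.mul_mem_right _ _ h'))
      rintro _ ⟨l, rfl⟩
      exact hK l q fun h' => h (Ideal.mul_mem_left _ _ (Ideal.mem_of_dvd _ (Finset.dvd_prod_of_mem _ (Finset.mem_univ l)) h'))
  choose K g hg hT hK using hloc
  obtain ⟨s, hs⟩ : ∃ s : Finset (PrimeSpectrum A), ∀ q : PrimeSpectrum A, ∃ i ∈ s, g i ∉ q.asIdeal := by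
    have htop : Ideal.span (Set.range g) = ⊤ := by
      by_contra h
      obtain ⟨m, hm, hle⟩ := Ideal.exists_le_maximal _ h
      exact hg ⟨m, hm.isPrime⟩ (hle (Ideal.subset_span ⟨_, rfl⟩))
    rw [Ideal.eq_top_iff_one, Ideal.span, Finsupp.mem_span_range_iff_exists_finsupp] at htop
    obtain ⟨c, hc⟩ := htop
    refine ⟨c.support, fun q => ?_⟩
    by_contra! h
    exact (Ideal.ne_top_iff_one _).1 q.isPrime.ne_top
      (hc ▸ Ideal.sum_mem _ fun i hi => Ideal.mul_mem_left _ _ (h i hi))
  let Jg : Ideal A := ⨅ q : PrimeSpectrum A, (J q).comap (algebraMap A (Localization.AtPrime q.asIdeal))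
  have hpow : ∀ (p : PrimeSpectrum A) (x : A), x ∈ K p → ∃ n : ℕ, g p ^ n * x ∈ Jg := by
    intro p x hx
    have hi : ∀ i : PrimeSpectrum A, ∃ n : ℕ, (g p * g i) ^ n * x ∈ K i := by
      intro i
      let I : Ideal A := Submodule.comap (LinearMap.mulRight A x) (K i)
      suffices h : g p * g i ∈ I.radical by exact h
      rw [Ideal.radical_eq_sInf, Submodule.mem_sInf]
      rintro P ⟨hIP, hP⟩
      by_contra h
      have h₁ : algebraMap A (Localization.AtPrime (⟨P, hP⟩ : PrimeSpectrum A).asIdeal) x ∈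
          (K i).map (algebraMap A _) := by
        rw [hK i ⟨P, hP⟩ (fun h' => h (Ideal.mul_mem_left _ _ h')), ← hK p ⟨P, hP⟩ (fun h' => h (Ideal.mul_mem_right _ _ h'))]
        exact Ideal.mem_map_of_mem _ hx
      obtain ⟨c, hc, hcx⟩ := (IsLocalization.algebraMap_mem_map_algebraMap_iff
        (⟨P, hP⟩ : PrimeSpectrum A).asIdeal.primeCompl _ _ _).1 h₁
      exact hc (hIP hcx)
    choose n hn using hi
    refine ⟨∑ i ∈ s, n i, Submodule.mem_iInf _ |>.2 fun q => ?_⟩
    obtain ⟨i, hi, hiq⟩ := hs q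
    show algebraMap A _ _ ∈ J q
    obtain ⟨k, hk⟩ := Nat.exists_eq_add_of_le (Finset.single_le_sum (fun j _ => Nat.zero_le (n j)) hi)
    rw [← hK i q hiq, IsLocalization.algebraMap_mem_map_algebraMap_iff q.asIdeal.primeCompl]
    refine ⟨g i ^ n i, q.asIdeal.primeCompl.pow_mem hiq _, ?_⟩
    rw [hk, show g i ^ n i * (g p ^ (n i + k) * x) = g p ^ k * ((g p * g i) ^ n i * x) by ring]
    exact Ideal.mul_mem_left _ _ (hn i)
  refine ⟨Jg, rep_of ((van_quot_iff _).2 fun t ht => ?_) fun J' hJ' x hx => ?_⟩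
  · refine Submodule.mem_of_span_eq_top_of_smul_pow_mem _ (Set.range g) ?_ t ?_
    · by_contra h
      obtain ⟨m, hm, hle⟩ := Ideal.exists_le_maximal _ h
      exact hg ⟨m, hm.isPrime⟩ (hle (Ideal.subset_span ⟨_, rfl⟩))
    · rintro ⟨_, p, rfl⟩
      obtain ⟨n, hn⟩ : ∃ n : ℕ, g p ^ n • (g p • t) ∈ Jg • (⊤ : Submodule A M) := by
        refine Submodule.smul_induction_on (hT p t ht) (fun c hc m _ => ?_) fun u v hu hv => ?_
        · obtain ⟨n, hn⟩ := hpow p c hc
          exact ⟨n, by rw [smul_smul]; exact Submodule.smul_mem_smul hn Submodule.mem_top⟩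
        · obtain ⟨nu, hu⟩ := hu
          obtain ⟨nv, hv⟩ := hv
          refine ⟨nu + nv, ?_⟩
          rw [smul_add]
          refine Submodule.add_mem _ ?_ ?_
          · rw [pow_add, mul_comm, mul_smul]
            exact Submodule.smul_mem _ _ hu
          · rw [pow_add, mul_smul]
            exact Submodule.smul_mem _ _ hv
      exact ⟨n + 1, by rw [pow_succ, mul_smul]; exact hn⟩
  · by_contra hxJ
    let I : Ideal A := Submodule.comap (LinearMap.mulRight A x) J'
    obtain ⟨m, hm, hle⟩ := Ideal.exists_le_maximal I (fun h => hxJ (by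
      have h1 : (1 : A) ∈ I := h ▸ Submodule.mem_top
      simpa [I] using h1))
    let q : PrimeSpectrum A := ⟨m, hm.isPrime⟩
    have h1 : algebraMap A (Localization.AtPrime q.asIdeal) x ∈ J'.map (algebraMap A _) :=
      hmin q _ (hJ'.map (Ideal.quotientMapₐ _ (Algebra.ofId A _) Ideal.le_comap_map)) ((Submodule.mem_iInf _).1 hx q)
    obtain ⟨c, hc, hcx⟩ := (IsLocalization.algebraMap_mem_map_algebraMap_iff q.asIdeal.primeCompl _ _ _).1 h1
    exact hc (hle hcx)

end Groth.Agent.VanRep13
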