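import Groth.Agent.Lib.VanRep13.Basic
import Groth.Agent.Lib.CplLocH7.Basic

/-!
# The vanishing ideal over a Noetherian local ring
-/

set_option autoImplicit false
set_option linter.style.haveILetI false
universe u

open scoped TensorProduct
open IsLocalRing

namespace Groth.Agent.VanRep13

set_option maxHeartbeats 1000000 in
theorem exists_rep_complete {R : Type u} [CommRing R] [IsLocalRing R] [IsNoetherianRing R]
    [IsAdicComplete (maximalIdeal R) R] {N : Type u} [AddCommGroup N] [Module R N] [Module.Flat R N]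
    (T : Set N) (hS : Sep R T) : ∃ J : Ideal R, Rep T J := by
  classical
  have hk : ∀ k : ℕ, ∃ J : Ideal R, maximalIdeal R ^ k ≤ J ∧ Van R T (R ⧸ J) ∧
      ∀ J' : Ideal R, maximalIdeal R ^ k ≤ J' → Van R T (R ⧸ J') → J ≤ J' := by
    intro k
    let I := maximalIdeal R ^ k
    rcases Nat.eq_zero_or_pos k with rfl | hk
    · refine ⟨⊤, le_top, fun t _ => ?_, fun J' hJ' _ => ?_⟩
      · haveI : Subsingleton (R ⧸ (⊤ : Ideal R)) := Ideal.Quotient.subsingleton_iff.2 rfl
        exact Subsingleton.elim _ _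
      · rwa [pow_zero, Ideal.one_eq_top] at hJ'
    haveI : Nontrivial (R ⧸ I) := Ideal.Quotient.nontrivial_iff.2
      (ne_top_of_le_ne_top (maximalIdeal.isMaximal R).ne_top (Ideal.pow_le_self hk.ne'))
    haveI : IsArtinianRing (R ⧸ I) := by
      haveI : IsLocalRing (R ⧸ I) := IsLocalRing.of_surjective' (Ideal.Quotient.mk I) Ideal.Quotient.mk_surjective
      refine (isArtinianRing_iff_isNilpotent_maximalIdeal _).2 ⟨k, ?_⟩
      rw [← IsLocalRing.map_maximalIdeal_of_surjective _ (Ideal.Quotient.mk_surjective (I := I)), ← Ideal.map_pow]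
      exact Ideal.map_quotient_self I
    let s : Set (Ideal (R ⧸ I)) := {K | Van R T (R ⧸ K.comap (Ideal.Quotient.mk I))}
    have hne : s.Nonempty := ⟨⊤, fun t _ => by
      haveI : Subsingleton (R ⧸ (⊤ : Ideal (R ⧸ I)).comap (Ideal.Quotient.mk I)) :=
        Ideal.Quotient.subsingleton_iff.2 Ideal.comap_top
      exact Subsingleton.elim _ _⟩
    obtain ⟨K, hK, hmin⟩ := (wellFounded_lt (α := Ideal (R ⧸ I))).has_min s hne
    refine ⟨K.comap (Ideal.Quotient.mk I), ?_, hK, fun J' hJ' hvan => ?_⟩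
    · exact Ideal.mk_ker.symm.trans_le (Ideal.ker_le_comap _)
    · have hJ : J' = (J'.map (Ideal.Quotient.mk I)).comap (Ideal.Quotient.mk I) := by
        rw [Ideal.comap_map_of_surjective _ Ideal.Quotient.mk_surjective, ← RingHom.ker_eq_comap_bot, Ideal.mk_ker,
          sup_eq_left.2 hJ']
      rw [hJ] at hvan ⊢
      have hmem : K ⊓ J'.map (Ideal.Quotient.mk I) ∈ s := by
        show Van R T (R ⧸ (K ⊓ J'.map (Ideal.Quotient.mk I)).comap (Ideal.Quotient.mk I))
        rw [Ideal.comap_inf]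
        exact van_inf hK hvan
      have heq : K ⊓ J'.map (Ideal.Quotient.mk I) = K := by
        by_contra hne'
        exact hmin _ hmem (lt_of_le_of_ne inf_le_left hne')
      exact Ideal.comap_mono (heq ▸ inf_le_right)
  choose J hJm hJv hJmin using hk
  have hanti : ∀ k, J (k + 1) ≤ J k := fun k =>
    hJmin (k + 1) (J k) ((Ideal.pow_le_pow_right k.le_succ).trans (hJm k)) (hJv k)
  have hanti' : ∀ {k l : ℕ}, k ≤ l → J l ≤ J k := fun h => antitone_nat_of_succ_le hanti h
  have hstep : ∀ k, J k ≤ J (k + 1) ⊔ maximalIdeal R ^ k := fun k =>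
    hJmin k _ le_sup_right ((hJv (k + 1)).of_le le_sup_left)
  let Jh : Ideal R := ⨅ k, J k
  have hsurj : ∀ k, J k ≤ Jh ⊔ maximalIdeal R ^ k := by
    intro k x hx
    have hnext : ∀ (j : ℕ) (y : R), y ∈ J (k + j) → ∃ y' ∈ J (k + j + 1), y - y' ∈ maximalIdeal R ^ (k + j) := by
      intro j y hy
      obtain ⟨y', hy', z, hz, e⟩ := Submodule.mem_sup.1 (hstep (k + j) hy)
      exact ⟨y', hy', by rwa [← e, add_sub_cancel_left]⟩
    choose next hnext₁ hnext₂ using hnext
    let seq : (j : ℕ) → {y : R // y ∈ J (k + j)} := fun j =>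
      Nat.rec (motive := fun j => {y : R // y ∈ J (k + j)}) ⟨x, hx⟩ (fun j y => ⟨next j y.1 y.2, hnext₁ j y.1 y.2⟩) j
    have hseq : ∀ i j, i ≤ j → (seq i).1 - (seq j).1 ∈ maximalIdeal R ^ (k + i) := by
      intro i j hij
      induction hij with
      | refl => simp
      | @step j hij ih =>
        rw [show (seq i).1 - (seq (j + 1)).1 = ((seq i).1 - (seq j).1) + ((seq j).1 - (seq (j + 1)).1) by ring]
        exact Ideal.add_mem _ ih (Ideal.pow_le_pow_right (Nat.add_le_add_left hij k) (hnext₂ j (seq j).1 (seq j).2))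
    obtain ⟨L, hL⟩ := IsPrecomplete.prec (I := maximalIdeal R) inferInstance (f := fun j => (seq j).1)
      (fun {i j} hij => by
        rw [SModEq.sub_mem, smul_eq_mul, Ideal.mul_top]
        exact Ideal.pow_le_pow_right (Nat.le_add_left i k) (hseq i j hij))
    have hL' : ∀ j, (seq j).1 - L ∈ maximalIdeal R ^ j := fun j => by
      simpa [SModEq.sub_mem, smul_eq_mul, Ideal.mul_top] using hL j
    have hLmem : L ∈ Jh := by
      refine Submodule.mem_iInf _ |>.2 fun l => ?_
      rw [show L = (seq l).1 - ((seq l).1 - L) by ring]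
      exact Ideal.sub_mem _ (hanti' (Nat.le_add_left l k) (seq l).2) (hJm l (hL' l))
    refine Submodule.mem_sup.2 ⟨L, hLmem, x - L, ?_, add_sub_cancel L x⟩
    rw [show x - L = (x - (seq k).1) + ((seq k).1 - L) by ring]
    exact Ideal.add_mem _ (hseq 0 k (Nat.zero_le k)) (hL' k)
  refine ⟨Jh, rep_of ?_ fun J' hJ' => ?_⟩
  · by_cases htop : Jh = ⊤
    · intro t _
      haveI : Subsingleton (R ⧸ Jh) := Ideal.Quotient.subsingleton_iff.2 htop
      exact Subsingleton.elim _ _
    haveI : Nontrivial (R ⧸ Jh) := Ideal.Quotient.nontrivial_iff.2 htop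
    haveI : IsLocalRing (R ⧸ Jh) := IsLocalRing.of_surjective' (Ideal.Quotient.mk Jh) Ideal.Quotient.mk_surjective
    refine hS (R ⧸ Jh) fun k t ht => ?_
    have h1 := (van_quot_iff (J k)).1 (hJv k) t ht
    have h2 := Submodule.smul_mono_left (N := (⊤ : Submodule R N)) (hsurj k) h1
    refine Submodule.smul_induction_on h2 (fun r hr n _ => ?_) (fun a b ha hb => ?_)
    · obtain ⟨u, hu, v, hv, rfl⟩ := Submodule.mem_sup.1 hr
      rw [TensorProduct.tmul_smul, TensorProduct.smul_tmul', Algebra.smul_def, mul_one, map_add,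
        Ideal.Quotient.algebraMap_eq, Ideal.Quotient.eq_zero_iff_mem.2 hu, zero_add,
        ← mul_one (Ideal.Quotient.mk Jh v), ← smul_eq_mul, ← TensorProduct.smul_tmul']
      refine Submodule.smul_mem_smul ?_ Submodule.mem_top
      rw [← IsLocalRing.map_maximalIdeal_of_surjective _ (Ideal.Quotient.mk_surjective (I := Jh)), ← Ideal.map_pow]
      exact Ideal.mem_map_of_mem _ hv
    · rw [TensorProduct.tmul_add]
      exact Submodule.add_mem _ ha hb
  · intro x hx
    by_cases htop : J' = ⊤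
    · rw [htop]; trivial
    rw [← Ideal.Quotient.eq_zero_iff_mem]
    have hx' : ∀ k, Ideal.Quotient.mk J' x ∈ ((maximalIdeal R ^ k).map (Ideal.Quotient.mk J')) := fun k => by
      have h := hJmin k (J' ⊔ maximalIdeal R ^ k) le_sup_right (hJ'.of_le le_sup_left) ((Submodule.mem_iInf _).1 hx k)
      obtain ⟨u, hu, v, hv, e⟩ := Submodule.mem_sup.1 h
      rw [← e, map_add, Ideal.Quotient.eq_zero_iff_mem.2 hu, zero_add]
      exact Ideal.mem_map_of_mem _ hv
    have h0 := Ideal.iInf_pow_smul_eq_bot_of_isLocalRing (M := R ⧸ J') (maximalIdeal R)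
      (maximalIdeal.isMaximal R).ne_top
    rw [← Submodule.mem_bot R, ← h0, Submodule.mem_iInf]
    intro k
    rw [Ideal.smul_top_eq_map]
    exact hx' k

/-- The vanishing ideal over a Noetherian local ring. -/
theorem exists_rep_local {L : Type u} [CommRing L] [IsLocalRing L] [IsNoetherianRing L] {N : Type u}
    [AddCommGroup N] [Module L N] [Module.Flat L N] (T : Set N) (hS : Sep L T) : ∃ J : Ideal L, Rep T J := by
  let R := CplLocH7.Cpl L
  haveI := CplLocH7.faithfullyFlat_cpl L
  obtain ⟨Jh, hJh⟩ := exists_rep_complete (img L R T) (hS.img R)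
  let J₀ := Jh.comap (algebraMap L R)
  have hdesc : Jh ≤ J₀.map (algebraMap L R) := by
    intro x hx
    let Q := R ⧸ Jh
    -- `x ⊗ 1` and `1 ⊗ x` both die in `(R / Jh) ⊗ R`
    let C := R ⊗[L] Q
    have hv : Van L T C := ((van_img R Q).1 hJh.van).map Algebra.TensorProduct.includeRight
    have h1 : Jh ≤ RingHom.ker (algebraMap R C) := (hJh C).1 ((van_img R C).2 hv)
    have h2 : x ⊗ₜ[L] (1 : Q) = 0 := h1 hx
    let ι : (L ⧸ J₀) →ₗ[L] Q := (Ideal.quotientMapₐ Jh (Algebra.ofId L R) le_rfl).toLinearMap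
    have hι : Function.Injective ι := Ideal.quotientMap_injective
    have h3 : x ⊗ₜ[L] (1 : L ⧸ J₀) = 0 := by
      refine Module.Flat.lTensor_preserves_injective_linearMap (M := R) ι hι ?_
      rw [map_zero, LinearMap.lTensor_tmul]
      rw [show ι 1 = 1 from map_one (Ideal.quotientMapₐ Jh (Algebra.ofId L R) le_rfl)]
      exact h2
    have h4 := congrArg (TensorProduct.quotTensorEquivQuotSMul R J₀ ∘ TensorProduct.comm L R (L ⧸ J₀)) h3
    simp only [Function.comp_apply, map_zero, TensorProduct.comm_tmul] at h4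
    have h5 : TensorProduct.quotTensorEquivQuotSMul R J₀ ((1 : L ⧸ J₀) ⊗ₜ[L] x) = Submodule.Quotient.mk x := by
      have h := TensorProduct.quotTensorEquivQuotSMul_mk_tmul J₀ (1 : L) x
      rw [one_smul] at h
      exact h
    rw [h5, Submodule.Quotient.mk_eq_zero, Ideal.smul_top_eq_map] at h4
    exact h4
  refine ⟨J₀, rep_of ?_ fun J' hJ' => ?_⟩
  · have hR : Van L T (R ⧸ Jh) := (van_img R _).1 hJh.van
    exact (van_iff_of_injective (Ideal.quotientMapₐ Jh (Algebra.ofId L R) le_rfl) Ideal.quotientMap_injective).2 hR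
  · intro x hx
    have h1 : Van R (img L R T) (R ⧸ J'.map (algebraMap L R)) :=
      (van_img R _).2 (hJ'.map (Ideal.quotientMapₐ _ (Algebra.ofId L R) Ideal.le_comap_map))
    rw [← Ideal.comap_map_eq_self_of_faithfullyFlat (B := R) J']
    exact hJh.least h1 hx

end Groth.Agent.VanRep13
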