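import Groth.Agent.Lib.VanRep13.Model

/-!
# The closed subscheme of vanishing of a homomorphism
-/

set_option autoImplicit false
set_option linter.style.haveILetI false
set_option backward.isDefEq.respectTransparency false
universe u

open CategoryTheory Limits AlgebraicGeometry TopologicalSpace

namespace Groth.Agent.VanRep13

variable {Y S : Scheme.{u}} (q : Y ⟶ S) {G F : Y.Modules} (σ : G ⟶ F)

theorem vanAt_comp {T T' : Scheme.{u}} (g : T ⟶ S) (w : T' ⟶ T) (h : VanAt q σ g) : VanAt q σ (w ≫ g) := by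
  let j := pullback.map q (w ≫ g) q g (𝟙 Y) w (𝟙 S) (by simp) (by simp)
  have hj : j ≫ pullback.fst q g = pullback.fst q (w ≫ g) := by simp [j]
  rw [VanAt, map_eq_zero_cmp_iff j _ hj, show (Scheme.Modules.pullback (pullback.fst q g)).map σ = 0 from h,
    Functor.map_zero]

theorem vanAt_of_cover {T : Scheme.{u}} (g : T ⟶ S) {ι : Type*} (T' : ι → Scheme.{u}) (w : ∀ i, T' i ⟶ T)
    [∀ i, IsOpenImmersion (w i)] (hcov : ∀ x, ∃ i, x ∈ Set.range (w i)) (h : ∀ i, VanAt q σ (w i ≫ g)) :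
    VanAt q σ g := by
  let j := fun i => pullback.map q (w i ≫ g) q g (𝟙 Y) (w i) (𝟙 S) (by simp) (by simp)
  have hj : ∀ i, j i ≫ pullback.fst q g = pullback.fst q (w i ≫ g) := fun i => by simp [j]
  refine hom_eq_zero_of_cover _ _ j (fun x => ?_) fun i => (map_eq_zero_cmp_iff (j i) _ (hj i) σ).1 (h i)
  obtain ⟨i, hi⟩ := hcov (pullback.snd q g x)
  refine ⟨i, ?_⟩
  rw [Scheme.Pullback.range_map]
  exact ⟨by simp, hi⟩

variable [IsProper q] [LocallyOfFinitePresentation q] [Coh.IsQCoh G] [Coh.IsQCoh F]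

theorem exists_ideal_affineOpen (hF : CohB1.IsFP F) (hfl : FlatMod.IsFlatOver q F) (U : S.affineOpens) :
    ∃ J : Ideal Γ(S, U.1), ∀ (C : CommRingCat.{u}) (φ : Γ(S, U.1) ⟶ C),
      VanAt q σ (Spec.map φ ≫ U.2.fromSpec) ↔ J ≤ RingHom.ker φ.hom := by
  let π := pullback.fst q U.2.fromSpec
  haveI := M1.isQCoh_pullback π (M := F) ‹_›
  haveI := M1.isQCoh_pullback π (M := G) ‹_›
  obtain ⟨J, hJ⟩ := exists_ideal (pullback.snd q U.2.fromSpec) (M1.isFP_pullback π hF)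
    (fun x => FlatH4.isFlatOverAt_baseChange (IsPullback.of_hasPullback q U.2.fromSpec) F x (hfl _))
    ((Scheme.Modules.pullback π).map σ)
  exact ⟨J, fun C φ => (vanAt_comp_iff (IsPullback.of_hasPullback q U.2.fromSpec) σ (Spec.map φ)).symm.trans (hJ C φ)⟩

/-- The vanishing of a homomorphism is a closed subscheme. -/
theorem exists_idealSheaf (hF : CohB1.IsFP F) (hfl : FlatMod.IsFlatOver q F) :
    ∃ I : S.IdealSheafData, ∀ (T : Scheme.{u}) (g : T ⟶ S),
      (∃ h : T ⟶ I.subscheme, h ≫ I.subschemeι = g) ↔ VanAt q σ g := by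
  choose J hJ using exists_ideal_affineOpen q σ hF hfl
  have hmap : ∀ (U : S.affineOpens) (f : Γ(S, U.1)),
      (J U).map (S.presheaf.map (homOfLE <| S.basicOpen_le f).op).hom = J (S.affineBasicOpen f) := by
    intro U f
    let res : Γ(S, U.1) ⟶ Γ(S, (S.affineBasicOpen f).1) := S.presheaf.map (homOfLE <| S.basicOpen_le f).op
    have hres : Spec.map res ≫ U.2.fromSpec = (S.affineBasicOpen f).2.fromSpec :=
      IsAffineOpen.map_fromSpec U.2 (S.affineBasicOpen f).2 _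
    have key : ∀ (C : CommRingCat.{u}) (φ : Γ(S, (S.affineBasicOpen f).1) ⟶ C),
        (J U).map res.hom ≤ RingHom.ker φ.hom ↔ J (S.affineBasicOpen f) ≤ RingHom.ker φ.hom := by
      intro C φ
      rw [Ideal.map_le_iff_le_comap, RingHom.comap_ker, ← CommRingCat.hom_comp, ← hJ, ← hJ, Spec.map_comp,
        Category.assoc, hres]
    refine le_antisymm ?_ ?_
    · have := (key (CommRingCat.of (_ ⧸ J (S.affineBasicOpen f))) (CommRingCat.ofHom (Ideal.Quotient.mk _))).2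
        Ideal.mk_ker.ge
      simpa [Ideal.mk_ker] using this
    · have := (key (CommRingCat.of (_ ⧸ (J U).map res.hom)) (CommRingCat.ofHom (Ideal.Quotient.mk _))).1
        Ideal.mk_ker.ge
      simpa [Ideal.mk_ker] using this
  let I : S.IdealSheafData := { ideal := J, map_ideal_basicOpen := hmap }
  refine ⟨I, fun T g => ?_⟩
  have hker : (∃ h : T ⟶ I.subscheme, h ≫ I.subschemeι = g) ↔ ∀ U : S.affineOpens, J U ≤ RingHom.ker (g.app U.1).hom := by
    refine Iff.trans ⟨?_, fun h => ⟨IsClosedImmersion.lift I.subschemeι g (by rwa [Scheme.IdealSheafData.ker_subschemeι]),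
      IsClosedImmersion.lift_fac _ _ _⟩⟩ Scheme.IdealSheafData.le_ofIdeals_iff
    rintro ⟨h, rfl⟩
    have := Scheme.Hom.le_ker_comp h I.subschemeι
    rwa [Scheme.IdealSheafData.ker_subschemeι] at this
  rw [hker]
  constructor
  · intro h
    let ι := { p : S.affineOpens × T.affineOpens // p.2.1 ≤ g ⁻¹ᵁ p.1.1 }
    refine vanAt_of_cover q σ g (fun p : ι => Spec Γ(T, p.1.2.1)) (fun p => p.1.2.2.fromSpec) (fun x => ?_) fun p => ?_
    · obtain ⟨_, ⟨U, hU, rfl⟩, hxU, -⟩ :=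
        S.isBasis_affineOpens.exists_subset_of_mem_open (Set.mem_univ (g x)) isOpen_univ
      obtain ⟨_, ⟨W, hW, rfl⟩, hxW, hWU⟩ :=
        T.isBasis_affineOpens.exists_subset_of_mem_open (show x ∈ g ⁻¹ᵁ U from hxU) (g ⁻¹ᵁ U).isOpen
      exact ⟨⟨(⟨U, hU⟩, ⟨W, hW⟩), hWU⟩, hW.range_fromSpec.ge hxW⟩
    · rw [← IsAffineOpen.SpecMap_appLE_fromSpec g p.1.1.2 p.1.2.2 p.2, hJ]
      intro a ha
      rw [RingHom.mem_ker, Scheme.Hom.appLE, CommRingCat.comp_apply, (h p.1.1 ha : g.app _ a = 0), map_zero]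
  · intro h U a ha
    rw [RingHom.mem_ker]
    refine T.sheaf.eq_of_locally_eq' (fun W : { W : T.affineOpens // W.1 ≤ g ⁻¹ᵁ U.1 } => W.1.1) (g ⁻¹ᵁ U.1)
      (fun W => homOfLE W.2) ?_ _ _ fun W => ?_
    · intro x hx
      obtain ⟨_, ⟨W, hW, rfl⟩, hxW, hWU⟩ :=
        T.isBasis_affineOpens.exists_subset_of_mem_open (show x ∈ g ⁻¹ᵁ U.1 from hx) (g ⁻¹ᵁ U.1).isOpen
      exact Opens.mem_iSup.2 ⟨⟨⟨W, hW⟩, hWU⟩, hxW⟩
    · have h1 := (hJ U _ (g.appLE U.1 W.1.1 W.2)).1 (by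
        rw [IsAffineOpen.SpecMap_appLE_fromSpec g U.2 W.1.2 W.2]; exact vanAt_comp q σ g _ h) ha
      rw [RingHom.mem_ker, Scheme.Hom.appLE, CommRingCat.comp_apply] at h1
      rw [map_zero]
      exact h1

end Groth.Agent.VanRep13
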