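import Groth.Agent.Lib.VanRep13.Noeth
import Groth.Agent.Lib.ConsH13.ModEngine
import Groth.Agent.Lib.LimH13.ArrowModel
import Groth.Agent.S2074
import Groth.Agent.Lib.KFlat.Pullback
import Groth.Agent.S4849

/-!
# The vanishing ideal over an arbitrary ring
-/

set_option autoImplicit false
set_option linter.style.haveILetI false
set_option backward.isDefEq.respectTransparency false
universe u

open CategoryTheory Limits AlgebraicGeometry TopologicalSpace Opposite
open Groth.Agent.LimH13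

namespace Groth.Agent.VanRep13

/-- The base change of `σ` along `g` vanishes. -/
def VanAt {Y S T : Scheme.{u}} (q : Y ⟶ S) {G F : Y.Modules} (σ : G ⟶ F) (g : T ⟶ S) : Prop :=
  (Scheme.Modules.pullback (pullback.fst q g)).map σ = 0

theorem map_pullback_eq_zero_of_iso {X X' : Scheme.{u}} (e : X' ⟶ X) [IsIso e] {M N : X.Modules} (ψ : M ⟶ N)
    (h : (Scheme.Modules.pullback e).map ψ = 0) : ψ = 0 :=
  hom_eq_zero_of_cover ψ (fun _ : Unit => X') (fun _ => e) (fun x => ⟨(), (asIso e).hom.surjective x⟩) fun _ => h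

/-- Vanishing along a morphism through a base change. -/
theorem vanAt_comp_iff {Y Y' S S' T : Scheme.{u}} {q : Y ⟶ S} {q' : Y' ⟶ S'} {π : Y' ⟶ Y} {ψ : S' ⟶ S}
    (H : IsPullback π q' q ψ) {G F : Y.Modules} (σ : G ⟶ F) (g : T ⟶ S') :
    VanAt q' ((Scheme.Modules.pullback π).map σ) g ↔ VanAt q σ (g ≫ ψ) := by
  have H' := (IsPullback.of_hasPullback q' g).paste_horiz H
  let e := H'.isoPullback
  have he : e.hom ≫ pullback.fst q (g ≫ ψ) = pullback.fst q' g ≫ π := H'.isoPullback_hom_fst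
  rw [VanAt, VanAt, ← map_eq_zero_cmp_iff _ π rfl σ, map_eq_zero_cmp_iff e.hom _ he σ]
  exact ⟨fun h => map_pullback_eq_zero_of_iso e.hom _ h, fun h => by rw [h, Functor.map_zero]⟩

/-- A Noetherian model with a flat module. -/
theorem exists_model {A : CommRingCat.{u}} {Y : Scheme.{u}} (q : Y ⟶ Spec A) [IsProper q]
    [LocallyOfFinitePresentation q] (F : Y.Modules) [Coh.IsQCoh F] (hF : CohB1.IsFP F) (hfl : FlatMod.IsFlatOver q F) :
    ∃ (i : (ConsH13.FGSub A)ᵒᵖ) (X₀ : Scheme.{u}) (u₀ : X₀ ⟶ (ConsH13.approxDiagram A).obj i) (π : Y ⟶ X₀)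
      (F₀ : X₀.Modules), IsProper u₀ ∧ IsPullback π q u₀ ((ConsH13.approxCone A).π.app i) ∧ Coh.IsQCoh F₀ ∧
        CohB1.IsFP F₀ ∧ FlatMod.IsFlatOver u₀ F₀ ∧ Nonempty ((Scheme.Modules.pullback π).obj F₀ ≅ F) := by
  let D := ConsH13.approxDiagram A
  let c := ConsH13.approxCone A
  have hc : IsLimit c := ConsH13.isLimitApproxCone A
  haveI : CompactSpace Y := QuasiCompact.compactSpace_of_compactSpace q
  haveI : QuasiSeparatedSpace Y := quasiSeparatedSpace_of_quasiSeparated q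
  obtain ⟨i, P, p, qX, hp, hPc, hPq, hP⟩ := hasModel_of_finitePresentation hc (X := Y) (q : Y ⟶ c.pt)
  haveI := hp
  haveI := hPc
  haveI := hPq
  haveI : ∀ j : (ConsH13.FGSub A)ᵒᵖ, IsNoetherianRing ((ConsH13.subFunctor A).obj j.unop) := fun j => inferInstance
  haveI : IsIso (𝟙 c.pt) := IsIso.id c.pt
  haveI : ∀ j, IsLocallyNoetherian (D.obj j) := fun j =>
    inferInstanceAs (IsLocallyNoetherian (Spec ((ConsH13.subFunctor A).obj j.unop)))
  haveI : ∀ j, CompactSpace (D.obj j) := fun j =>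
    inferInstanceAs (CompactSpace (Spec ((ConsH13.subFunctor A).obj j.unop)))
  haveI : ∀ j, QuasiSeparatedSpace (D.obj j) := fun j =>
    inferInstanceAs (QuasiSeparatedSpace (Spec ((ConsH13.subFunctor A).obj j.unop)))
  haveI : CompactSpace c.pt := inferInstanceAs (CompactSpace (Spec A))
  haveI : QuasiSeparatedSpace c.pt := inferInstanceAs (QuasiSeparatedSpace (Spec A))
  haveI : IsProper (q : Y ⟶ c.pt) := ‹IsProper q›
  obtain ⟨i₁, φ, Xi, Yi, fi, gi, pY, pX, hY', hX', hfi⟩ :=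
    Groth.Agent.S2074.result D c hc i p (𝟙 (D.obj i)) q (𝟙 c.pt) (c.π.app i) qX
      (IsPullback.of_vert_isIso ⟨by first | exact (Category.id_comp _).trans (Category.comp_id _).symm | exact (Category.comp_id _).trans (Category.id_comp _).symm⟩) hP
  haveI := hfi
  haveI : IsIso gi := hY'.isIso_snd_of_isIso
  haveI : IsProper (fi ≫ gi) := inferInstance
  have hP₁ : IsPullback pX (fi ≫ gi) p (D.map φ) := by
    have h := hX'.paste_vert hY'
    rwa [Category.comp_id] at h
  have hw : qX ≫ p = ((q : Y ⟶ c.pt) ≫ c.π.app i₁) ≫ D.map φ := by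
    rw [Category.assoc, c.w]; exact hP.w
  let q₁ : Y ⟶ Xi := hP₁.lift qX ((q : Y ⟶ c.pt) ≫ c.π.app i₁) hw
  have hq₁ : IsPullback q₁ q (fi ≫ gi) (c.π.app i₁) := by
    refine IsPullback.of_right ?_ (hP₁.lift_snd _ _ hw) hP₁
    rw [hP₁.lift_fst, c.w]
    exact hP
  let F₁ := Over.forget i₁
  let D' := F₁ ⋙ D
  let t : D' ⟶ (Functor.const (Over i₁)).obj (D.obj i₁) := Descend.overT D i₁
  let c' := c.whisker F₁
  have hc' : IsLimit c' := (Functor.Initial.isLimitWhiskerEquiv F₁ c).symm hc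
  have hq : ∀ k, c'.π.app k ≫ t.app k = c.π.app i₁ := fun k => c.w k.hom
  haveI : ∀ k, IsAffineHom (t.app k) := fun k => (inferInstanceAs (IsAffineHom (D.map k.hom)))
  haveI : ∀ (k l : Over i₁) (a : k ⟶ l), IsAffineHom ((Descend.pbDiagram D' t (fi ≫ gi)).map a) :=
    fun k l a => Descend.pb_isAffineHom_map D' t (fi ≫ gi) a
  let e := Descend.pbCone D' t (fi ≫ gi) c' hq hq₁
  have he : IsLimit e := Descend.pbIsLimit D' t (fi ≫ gi) c' hq hq₁ hc'
  haveI : CompactSpace Xi := QuasiCompact.compactSpace_of_compactSpace (fi ≫ gi)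
  haveI : QuasiSeparatedSpace Xi := quasiSeparatedSpace_of_quasiSeparated (fi ≫ gi)
  haveI : ∀ k : Over i₁, IsLocallyNoetherian ((Descend.pbDiagram D' t (fi ≫ gi)).obj k) := fun k => by
    haveI : IsLocallyNoetherian (D'.obj k) := inferInstanceAs (IsLocallyNoetherian (D.obj k.left))
    exact LocallyOfFiniteType.isLocallyNoetherian (pullback.snd (fi ≫ gi) (t.app k))
  obtain ⟨k, -, Fk, hFk, hFkp, ⟨ei⟩⟩ :=
    ModLimH13.exists_module_descend_noetherian he (i₀ := Over.mk (𝟙 i₁)) (F : e.pt.Modules) hF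
  haveI := hFk
  let uk : (Descend.pbDiagram D' t (fi ≫ gi)).obj k ⟶ D.obj k.left := pullback.snd (fi ≫ gi) (t.app k)
  haveI : IsProper uk := MorphismProperty.pullback_snd _ _ inferInstance
  haveI : LocallyOfFinitePresentation uk := locallyOfFinitePresentation_of_noetherian uk
  haveI : LocallyOfFinitePresentation (uk ≫ 𝟙 (D.obj k.left)) := by rw [Category.comp_id]; infer_instance
  haveI : QuasiCompact (uk ≫ 𝟙 (D.obj k.left)) := by rw [Category.comp_id]; infer_instance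
  haveI : QuasiSeparated (uk ≫ 𝟙 (D.obj k.left)) := by rw [Category.comp_id]; infer_instance
  haveI : ∀ (a b : (ConsH13.FGSub A)ᵒᵖ) (h : a ⟶ b), IsAffineHom (D.map h) := fun _ _ h => inferInstance
  obtain ⟨i₂, φ₂, X₂, Y₂, f₂, g₂, pY₂, pX₂, hY₂, hX₂, hfl₂⟩ :=
    (Groth.Agent.S4849.result D c hc k.left uk (𝟙 _) Fk hFkp (q : Y ⟶ c.pt) (𝟙 c.pt) (c.π.app k.left)
      (e.π.app k) (IsPullback.of_vert_isIso ⟨by first | exact (Category.id_comp _).trans (Category.comp_id _).symm | exact (Category.comp_id _).trans (Category.id_comp _).symm⟩)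
      (Descend.pbCone_isPullback D' t (fi ≫ gi) c' hq hq₁ k)).1
      (fun x => SchDom.isFlatOverAt_of_iso _ ei.symm x (hfl x))
  haveI : IsIso g₂ := hY₂.isIso_snd_of_isIso
  have hP₂ : IsPullback pX₂ (f₂ ≫ g₂) uk (D.map φ₂) := by
    have h := hX₂.paste_vert hY₂
    rwa [Category.comp_id] at h
  haveI : IsProper (f₂ ≫ g₂) := MorphismProperty.of_isPullback hP₂ inferInstance
  have hw₂ : e.π.app k ≫ uk = ((q : Y ⟶ c.pt) ≫ c.π.app i₂) ≫ D.map φ₂ := by
    rw [Category.assoc, c.w]; exact (Descend.pbCone_isPullback D' t (fi ≫ gi) c' hq hq₁ k).w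
  let π₂ : Y ⟶ X₂ := hP₂.lift (e.π.app k) ((q : Y ⟶ c.pt) ≫ c.π.app i₂) hw₂
  have hπ₂ : IsPullback π₂ q (f₂ ≫ g₂) (c.π.app i₂) := by
    refine IsPullback.of_right ?_ (hP₂.lift_snd _ _ hw₂) hP₂
    rw [hP₂.lift_fst, c.w]
    exact Descend.pbCone_isPullback D' t (fi ≫ gi) c' hq hq₁ k
  let F₂ := (Scheme.Modules.pullback pX₂).obj Fk
  haveI : Coh.IsQCoh F₂ := M1.isQCoh_pullback pX₂ hFk
  refine ⟨i₂, X₂, f₂ ≫ g₂, π₂, F₂, inferInstance, hπ₂, inferInstance, M1.isFP_pullback pX₂ hFkp, fun x => ?_,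
    ⟨(ModLimH13.cmp π₂ pX₂ (hP₂.lift_fst _ _ hw₂)).app Fk ≪≫ ei⟩⟩
  have h1 := FlatH4.isFlatOverAt_baseChange
    (IsPullback.of_horiz_isIso ⟨(by simp : 𝟙 X₂ ≫ f₂ = (f₂ ≫ g₂) ≫ inv g₂)⟩) F₂ x (hfl₂ _)
  exact SchDom.isFlatOverAt_of_iso _ ((Scheme.Modules.pullbackId X₂).app F₂) x h1

set_option maxHeartbeats 1000000 in
/-- The vanishing ideal over an arbitrary ring. -/
theorem exists_ideal {A : CommRingCat.{u}} {Y : Scheme.{u}} (q : Y ⟶ Spec A) [IsProper q]
    [LocallyOfFinitePresentation q] {G F : Y.Modules} [Coh.IsQCoh G] [Coh.IsQCoh F] (hF : CohB1.IsFP F)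
    (hfl : FlatMod.IsFlatOver q F) (σ : G ⟶ F) :
    ∃ J : Ideal A, ∀ (C : CommRingCat.{u}) (φ : A ⟶ C), VanAt q σ (Spec.map φ) ↔ J ≤ RingHom.ker φ.hom := by
  classical
  obtain ⟨i, X₀, u₀, π₀, F₀, hu₀, hπ₀, hF₀q, hF₀, hfl₀, ⟨eF⟩⟩ := exists_model q F hF hfl
  haveI := hu₀
  haveI := hF₀q
  let D := ConsH13.approxDiagram A
  let c := ConsH13.approxCone A
  have hc : IsLimit c := ConsH13.isLimitApproxCone A
  let F₁ := Over.forget i
  let D' := F₁ ⋙ D
  let t : D' ⟶ (Functor.const (Over i)).obj (D.obj i) := Descend.overT D i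
  let c' := c.whisker F₁
  have hc' : IsLimit c' := (Functor.Initial.isLimitWhiskerEquiv F₁ c).symm hc
  have hq : ∀ k, c'.π.app k ≫ t.app k = c.π.app i := fun k => c.w k.hom
  haveI : ∀ k, IsAffineHom (t.app k) := fun k => (inferInstanceAs (IsAffineHom (D.map k.hom)))
  let E := Descend.pbDiagram D' t u₀
  haveI : ∀ (k l : Over i) (a : k ⟶ l), IsAffineHom (E.map a) := fun k l a => Descend.pb_isAffineHom_map D' t u₀ a
  let e := Descend.pbCone D' t u₀ c' hq hπ₀
  have he : IsLimit e := Descend.pbIsLimit D' t u₀ c' hq hπ₀ hc'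
  haveI : CompactSpace X₀ := by
    haveI : CompactSpace (D.obj i) := inferInstanceAs (CompactSpace (Spec ((ConsH13.subFunctor A).obj i.unop)))
    exact QuasiCompact.compactSpace_of_compactSpace u₀
  haveI : QuasiSeparatedSpace X₀ := by
    haveI : QuasiSeparatedSpace (D.obj i) :=
      inferInstanceAs (QuasiSeparatedSpace (Spec ((ConsH13.subFunctor A).obj i.unop)))
    exact quasiSeparatedSpace_of_quasiSeparated u₀
  haveI : ∀ k : Over i, IsLocallyNoetherian (E.obj k) := fun k => by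
    haveI : IsLocallyNoetherian (D'.obj k) :=
      inferInstanceAs (IsLocallyNoetherian (Spec ((ConsH13.subFunctor A).obj k.left.unop)))
    exact LocallyOfFiniteType.isLocallyNoetherian (pullback.snd u₀ (t.app k))
  haveI : CompactSpace Y := QuasiCompact.compactSpace_of_compactSpace q
  haveI : QuasiSeparatedSpace Y := quasiSeparatedSpace_of_quasiSeparated q
  let o : Over i := Over.mk (𝟙 i)
  let Fo : (E.obj o).Modules := (Scheme.Modules.pullback (pullback.fst u₀ (t.app o))).obj F₀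
  haveI : Coh.IsQCoh Fo := M1.isQCoh_pullback _ hF₀q
  have hflo : FlatMod.IsFlatOver (pullback.snd u₀ (t.app o)) Fo := fun x =>
    FlatH4.isFlatOverAt_baseChange (IsPullback.of_hasPullback u₀ (t.app o)) F₀ x (hfl₀ _)
  let eo : (Scheme.Modules.pullback (e.π.app o)).obj Fo ≅ F :=
    (ModLimH13.cmp (e.π.app o) (pullback.fst u₀ (t.app o)) (Descend.pbCone_fst D' t u₀ c' hq hπ₀ o)).app F₀ ≪≫ eF
  have step : ∀ s : { s : M1.Sub G // Coh.IsQCoh s.P ∧ CohB1.IsFT s.P },
      ∃ J : Ideal A, ∀ (C : CommRingCat.{u}) (φ : A ⟶ C),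
        (Scheme.Modules.pullback (pullback.fst q (Spec.map φ))).map (s.1.i ≫ σ) = 0 ↔ J ≤ RingHom.ker φ.hom := by
    rintro ⟨s, hsq, hsft⟩
    haveI := hsq
    obtain ⟨Q, θ, hQ, hQft, hθ⟩ := ModLimH13.exists_epi_from_stage he (i₀ := o) (s.P : e.pt.Modules) hsft
    haveI := hQ
    haveI := hθ
    let h : (Scheme.Modules.pullback (e.π.app o)).obj Q ⟶ (Scheme.Modules.pullback (e.π.app o)).obj Fo :=
      θ ≫ s.i ≫ σ ≫ eo.inv
    obtain ⟨j, φj, hj, hjh⟩ := ModLimH13.exists_hom_descend he h (M1.isFP_of_isCoh ⟨hQ, hQft⟩)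
    let R := (ConsH13.subFunctor A).obj j.left.unop
    haveI : IsNoetherianRing R := inferInstance
    let uj : E.obj j ⟶ Spec R := pullback.snd u₀ (t.app j)
    haveI : IsProper uj := MorphismProperty.pullback_snd _ _ inferInstance
    let Qj := (Scheme.Modules.pullback (E.map φj)).obj Q
    let Fj := (Scheme.Modules.pullback (E.map φj)).obj Fo
    haveI : Coh.IsQCoh Qj := M1.isQCoh_pullback _ hQ
    haveI : Coh.IsQCoh Fj := M1.isQCoh_pullback _ ‹Coh.IsQCoh Fo›
    have hflj : FlatMod.IsFlatOver uj Fj := fun x =>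
      FlatH4.isFlatOverAt_baseChange (Descend.pbMap_isPullback D' t u₀ φj) Fo x (hflo _)
    obtain ⟨Jj, hJj⟩ := exists_ideal_noeth (R := R) uj hj
      (M1.isFP_isFT (M1.isFP_pullback _ (M1.isFP_pullback _ hF₀))) hflj
    let ψ : R ⟶ A := Spec.preimage (c'.π.app j)
    refine ⟨Jj.map ψ.hom, fun C φ => ?_⟩
    letI : Algebra R C := (ψ ≫ φ).hom.toAlgebra
    have hJ := hJj C
    have hgC : Spec.map (CommRingCat.ofHom (algebraMap R C)) = Spec.map φ ≫ (c'.π.app j : Spec A ⟶ Spec R) := by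
      rw [← Spec.map_preimage (c'.π.app j : Spec A ⟶ Spec R), ← Spec.map_comp]
      rfl
    have key := vanAt_comp_iff (Descend.pbCone_isPullback D' t u₀ c' hq hπ₀ j) hj (Spec.map φ : Spec C ⟶ c'.pt)
    rw [Ideal.map_le_iff_le_comap, RingHom.comap_ker, show (φ.hom.comp ψ.hom) = algebraMap R C from rfl, ← hJ, hgC]
    refine Iff.trans ?_ key
    unfold VanAt
    let p := pullback.fst q (Spec.map φ)
    show (Scheme.Modules.pullback p).map (s.i ≫ σ) = 0 ↔
      (Scheme.Modules.pullback p).map ((Scheme.Modules.pullback (e.π.app j)).map hj) = 0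
    haveI : PreservesFiniteColimits (Scheme.Modules.pullback p) := KFlat.Sch.preservesFiniteColimits_pullback p
    have h1 : (Scheme.Modules.pullback p).map h = 0 ↔
        (Scheme.Modules.pullback p).map ((Scheme.Modules.pullback (e.π.app j)).map hj) = 0 := by
      rw [← hjh, Functor.map_comp, Functor.map_comp]
      constructor
      · intro hz
        exact (cancel_mono _).1 (((cancel_epi _).1 (hz.trans Limits.comp_zero.symm)).trans Limits.zero_comp.symm)
      · intro hz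
        rw [hz]; simp
    rw [← h1]
    constructor
    · intro hz
      show (Scheme.Modules.pullback p).map (θ ≫ s.i ≫ σ ≫ eo.inv) = 0
      rw [← Category.assoc s.i σ eo.inv, Functor.map_comp, Functor.map_comp]
      erw [hz]
      simp
    · intro hz
      haveI : Epi ((Scheme.Modules.pullback p).map θ) := inferInstance
      change (Scheme.Modules.pullback p).map (θ ≫ s.i ≫ σ ≫ eo.inv) = 0 at hz
      rw [← Category.assoc s.i σ eo.inv, Functor.map_comp, Functor.map_comp] at hz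
      exact (cancel_mono _).1 (((cancel_epi _).1 (hz.trans Limits.comp_zero.symm)).trans Limits.zero_comp.symm)
  choose J hJ using step
  refine ⟨⨆ s, J s, fun C φ => ⟨fun hv => iSup_le fun s => (hJ s C φ).1 ?_, fun hle => ?_⟩⟩
  · rw [Functor.map_comp, show (Scheme.Modules.pullback (pullback.fst q (Spec.map φ))).map σ = 0 from hv,
      Limits.comp_zero]
  · let p := pullback.fst q (Spec.map φ)
    refine ModLimH13.pullback_hom_ext p G _ _ fun y => ?_
    obtain ⟨_, ⟨V, hV, rfl⟩, hyV, -⟩ := Y.isBasis_affineOpens.exists_subset_of_mem_open (Set.mem_univ y) isOpen_univ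
    refine ⟨V, Set.univ, hyV, hV, Submodule.span_univ, fun a _ => ?_⟩
    obtain ⟨s, hsq, hsft, b, hb⟩ := M1.Sub.exists_through_section ‹Coh.IsQCoh G› ⟨V, hV⟩ a
    have hz := (hJ ⟨s, hsq, hsft⟩ C φ).2 ((le_iSup J _).trans hle)
    rw [ModLimH13.map_res', ← hb]
    show ModLimH13.res' p F _ ((s.i ≫ σ).app V b) = _
    rw [← ModLimH13.map_res', hz]
    rfl

end Groth.Agent.VanRep13
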