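import Groth.Agent.Lib.VanRep13.Global
import Groth.Agent.Lib.VanRep13.Chart
import Groth.Agent.S0389

/-!
# The vanishing ideal of a homomorphism on a proper scheme over a Noetherian ring
-/

set_option autoImplicit false
set_option linter.style.haveILetI false
set_option backward.isDefEq.respectTransparency false
universe u

open CategoryTheory Limits AlgebraicGeometry TopologicalSpace
open scoped TensorProduct

namespace Groth.Agent.VanRep13

section Algebra

variable {R : Type u} [CommRing R]

set_option maxHeartbeats 1000000 in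
/-- Generic freeness along a prime for one module over a finite type algebra. -/
theorem genFree_of_finite [IsNoetherianRing R] {B M : Type u} [CommRing B] [Algebra R B] [Algebra.FiniteType R B]
    [AddCommGroup M] [Module B M] [Module R M] [IsScalarTower R B M] [Module.Finite B M] : GenFree R M := by
  intro p _
  let I : Ideal B := p.map (algebraMap R B)
  let M' := M ⧸ I • (⊤ : Submodule B M)
  letI : Algebra (R ⧸ p) (B ⧸ I) := Ideal.Quotient.algebraQuotientMapQuotient
  haveI : IsScalarTower R (R ⧸ p) (B ⧸ I) := IsScalarTower.of_algebraMap_eq fun x => rfl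
  haveI : Algebra.FiniteType R (B ⧸ I) :=
    Algebra.FiniteType.of_surjective (Ideal.Quotient.mkₐ R I) Ideal.Quotient.mk_surjective
  haveI : Algebra.FiniteType (R ⧸ p) (B ⧸ I) := Algebra.FiniteType.of_restrictScalars_finiteType R _ _
  letI : Module (R ⧸ p) M' := Module.compHom M' (algebraMap (R ⧸ p) (B ⧸ I))
  haveI : IsScalarTower (R ⧸ p) (B ⧸ I) M' := IsScalarTower.of_algebraMap_smul fun _ _ => rfl
  haveI : IsScalarTower R (B ⧸ I) M' := IsScalarTower.of_algebraMap_smul fun x m => by
    show algebraMap R (B ⧸ I) x • m = x • m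
    rw [IsScalarTower.algebraMap_apply R B (B ⧸ I), algebraMap_smul, algebraMap_smul]
  haveI : IsScalarTower R (R ⧸ p) M' := IsScalarTower.of_algebraMap_smul fun x m => by
    show algebraMap (R ⧸ p) (B ⧸ I) (algebraMap R (R ⧸ p) x) • m = x • m
    rw [← IsScalarTower.algebraMap_apply R (R ⧸ p) (B ⧸ I), algebraMap_smul]
  haveI : Module.Finite (B ⧸ I) M' := Module.Finite.of_restrictScalars_finite B _ _
  obtain ⟨f, hf, hfree, -⟩ := S0389.result (R := R ⧸ p) (S := B ⧸ I) (M := M')
  obtain ⟨g, rfl⟩ := Ideal.Quotient.mk_surjective f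
  refine ⟨g, fun h => hf (Ideal.Quotient.eq_zero_iff_mem.2 h), ?_⟩
  let D := Localization.Away (Ideal.Quotient.mk p g)
  let π : M →ₗ[R] M' := (Submodule.mkQ (I • ⊤ : Submodule B M)).restrictScalars R
  let φ : D ⊗[R] M →ₗ[D] D ⊗[R ⧸ p] M' :=
    (((TensorProduct.mk (R ⧸ p) D M' 1).restrictScalars R) ∘ₗ π).liftBaseChange D
  have hkill : ∀ m : M, π m = 0 → (1 : D) ⊗ₜ[R] m = 0 := by
    intro m hm
    have hm' : m ∈ (p • (⊤ : Submodule R M)) := by
      rw [← Submodule.restrictScalars_top R B M, ← Ideal.smul_restrictScalars p (⊤ : Submodule B M)]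
      exact (Submodule.Quotient.mk_eq_zero _).1 hm
    refine Submodule.smul_induction_on hm' (fun a ha n _ => ?_) fun a b ha hb => ?_
    · rw [TensorProduct.tmul_smul, TensorProduct.smul_tmul', Algebra.smul_def, mul_one,
        IsScalarTower.algebraMap_apply R (R ⧸ p) D, Ideal.Quotient.algebraMap_eq,
        Ideal.Quotient.eq_zero_iff_mem.2 ha, map_zero, TensorProduct.zero_tmul]
    · rw [TensorProduct.tmul_add, ha, hb, add_zero]
  have hπ : Function.Surjective π := Submodule.mkQ_surjective _
  let sec : M' → D ⊗[R] M := fun m' => (1 : D) ⊗ₜ[R] Function.surjInv hπ m'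
  have hsec : ∀ m : M, sec (π m) = (1 : D) ⊗ₜ[R] m := fun m => sub_eq_zero.1 <| by
    rw [← TensorProduct.tmul_sub]
    exact hkill _ (by rw [map_sub, Function.surjInv_eq hπ, sub_self])
  let h : M' →ₗ[R ⧸ p] D ⊗[R] M :=
    { toFun := sec
      map_add' := fun a b => by
        obtain ⟨a, rfl⟩ := hπ a
        obtain ⟨b, rfl⟩ := hπ b
        rw [← map_add, hsec, hsec, hsec, TensorProduct.tmul_add]
      map_smul' := fun c a => by
        obtain ⟨a, rfl⟩ := hπ a
        obtain ⟨c, rfl⟩ := Ideal.Quotient.mk_surjective c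
        show sec (algebraMap R (R ⧸ p) c • π a) = algebraMap R (R ⧸ p) c • sec (π a)
        rw [algebraMap_smul, algebraMap_smul, ← map_smul,
          hsec, hsec, TensorProduct.tmul_smul] }
  let ψ : D ⊗[R ⧸ p] M' →ₗ[D] D ⊗[R] M := h.liftBaseChange D
  refine Module.Free.of_equiv (LinearEquiv.ofLinearMap ψ φ ?_ ?_)
  · refine LinearMap.ext fun z => ?_
    induction z using TensorProduct.induction_on with
    | zero => simp
    | tmul d m =>
      show ψ (φ (d ⊗ₜ m)) = d ⊗ₜ m
      simp only [φ, ψ, LinearMap.liftBaseChange_tmul, map_smul, LinearMap.comp_apply,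
        LinearMap.restrictScalars_apply, TensorProduct.mk_apply, one_smul]
      show d • sec (π m) = _
      rw [hsec, TensorProduct.smul_tmul', smul_eq_mul, mul_one]
    | add a b ha hb => simp only [map_add, ha, hb]
  · refine LinearMap.ext fun z => ?_
    induction z using TensorProduct.induction_on with
    | zero => simp
    | tmul d m =>
      obtain ⟨m, rfl⟩ := hπ m
      show φ (ψ (d ⊗ₜ π m)) = d ⊗ₜ π m
      simp only [φ, ψ, LinearMap.liftBaseChange_tmul, map_smul]
      show d • φ (sec (π m)) = _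
      simp only [hsec, φ, LinearMap.liftBaseChange_tmul, one_smul, LinearMap.comp_apply,
        LinearMap.restrictScalars_apply, TensorProduct.mk_apply, TensorProduct.smul_tmul', smul_eq_mul, mul_one]
    | add a b ha hb => simp only [map_add, ha, hb]

/-- Generic freeness of a finite product. -/
theorem genFree_pi {ι : Type u} [Fintype ι] [DecidableEq ι] {M : ι → Type u} [∀ i, AddCommGroup (M i)]
    [∀ i, Module R (M i)] (h : ∀ i, GenFree R (M i)) : GenFree R (∀ i, M i) := by
  classical
  intro p hp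
  choose g hg hfree using fun i => h i p
  let G := ∏ i, Ideal.Quotient.mk p (g i)
  have hG : G = Ideal.Quotient.mk p (∏ i, g i) := (map_prod _ _ _).symm
  refine ⟨∏ i, g i, fun hm => ?_, ?_⟩
  · obtain ⟨i, -, hi⟩ := Ideal.IsPrime.prod_mem_iff.1 hm
    exact hg i hi
  let D := Localization.Away (Ideal.Quotient.mk p (∏ i, g i))
  have key : ∀ i, Module.Free D (D ⊗[R] M i) := fun i => by
    let Di := Localization.Away (Ideal.Quotient.mk p (g i))
    have hu : IsUnit (algebraMap (R ⧸ p) D (Ideal.Quotient.mk p (g i))) := by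
      refine isUnit_of_dvd_unit (map_dvd _ ?_)
        (IsLocalization.Away.algebraMap_isUnit (S := D) (Ideal.Quotient.mk p (∏ i, g i)))
      exact map_dvd _ (Finset.dvd_prod_of_mem g (Finset.mem_univ i))
    letI : Algebra Di D := (IsLocalization.Away.lift (S := Di) (Ideal.Quotient.mk p (g i)) hu).toAlgebra
    haveI : IsScalarTower (R ⧸ p) Di D := IsScalarTower.of_algebraMap_eq fun x =>
      (IsLocalization.Away.lift_eq (S := Di) _ hu x).symm
    haveI : IsScalarTower R Di D := IsScalarTower.of_algebraMap_eq fun x => by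
      rw [IsScalarTower.algebraMap_apply R (R ⧸ p) D, IsScalarTower.algebraMap_apply R (R ⧸ p) Di,
        ← IsScalarTower.algebraMap_apply (R ⧸ p) Di D]
    haveI := hfree i
    exact Module.Free.of_equiv (TensorProduct.AlgebraTensorModule.cancelBaseChange R Di D D (M i))
  exact Module.Free.of_equiv (TensorProduct.piRight R D D M).symm

theorem tmul_single_eq_zero {C : Type u} [CommRing C] [Algebra R C] {ι : Type u} [Fintype ι] [DecidableEq ι]
    {M : ι → Type u} [∀ i, AddCommGroup (M i)] [∀ i, Module R (M i)] (i : ι) (m : M i) :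
    (1 : C) ⊗ₜ[R] (Pi.single i m : ∀ i, M i) = 0 ↔ (1 : C) ⊗ₜ[R] m = 0 := by
  constructor
  · intro h
    have := congrArg ((LinearMap.proj i : (∀ i, M i) →ₗ[R] M i).lTensor C) h
    simpa using this
  · intro h
    have := congrArg ((LinearMap.single R M i).lTensor C) h
    simpa using this

/-- A power of the maximal ideal passes to a chart. -/
theorem mem_smul_chart {B C M : Type u} [CommRing B] [Algebra R B] [CommRing C] [Algebra R C] [AddCommGroup M]
    [Module B M] [Module R M] [IsScalarTower R B M] (J : Ideal C) (m : M)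
    (hm : (1 : C) ⊗ₜ[R] m ∈ J • (⊤ : Submodule C (C ⊗[R] M))) :
    (1 : B ⊗[R] C) ⊗ₜ[B] m ∈ J.map (Algebra.TensorProduct.includeRight (R := R) (A := B) (B := C)).toRingHom •
      (⊤ : Submodule (B ⊗[R] C) ((B ⊗[R] C) ⊗[B] M)) := by
  let inr := Algebra.TensorProduct.includeRight (R := R) (A := B) (B := C)
  let θ : C ⊗[R] M →ₗ[R] (B ⊗[R] C) ⊗[B] M :=
    TensorProduct.lift (((TensorProduct.mk B (B ⊗[R] C) M).restrictScalars₁₂ R R) ∘ₗ inr.toLinearMap)
  have h1 : θ ((1 : C) ⊗ₜ[R] m) = (1 : B ⊗[R] C) ⊗ₜ[B] m := by simp [θ, inr, Algebra.TensorProduct.one_def]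
  have h2 : ∀ (c : C) (n : C ⊗[R] M), θ (c • n) = inr c • θ n := by
    intro c n
    induction n using TensorProduct.induction_on with
    | zero => simp
    | tmul d n => simp [θ, inr, TensorProduct.smul_tmul']
    | add a b ha hb => simp only [smul_add, map_add, ha, hb]
  rw [← h1]
  refine Submodule.smul_induction_on hm (fun c hc n _ => ?_) fun a b ha hb => ?_
  · rw [h2]
    exact Submodule.smul_mem_smul (Ideal.mem_map_of_mem _ hc) Submodule.mem_top
  · rw [map_add]; exact Submodule.add_mem _ ha hb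

end Algebra

theorem map_eq_zero_cmp_iff {X X' X'' : Scheme.{u}} (p : X'' ⟶ X') (g : X' ⟶ X) {h : X'' ⟶ X} (w : p ≫ g = h)
    {M N : X.Modules} (σ : M ⟶ N) :
    (Scheme.Modules.pullback h).map σ = 0 ↔
      (Scheme.Modules.pullback p).map ((Scheme.Modules.pullback g).map σ) = 0 := by
  have hn := (ModLimH13.cmp p g w).hom.naturality σ
  simp only [Functor.comp_map] at hn
  constructor
  · intro h1
    rw [h1, Limits.comp_zero] at hn
    exact (cancel_mono ((ModLimH13.cmp p g w).hom.app N)).1 (hn.trans Limits.zero_comp.symm)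
  · intro h1
    rw [h1, Limits.zero_comp] at hn
    exact (cancel_epi ((ModLimH13.cmp p g w).hom.app M)).1 (hn.symm.trans Limits.comp_zero.symm)

variable {R : Type u} [CommRing R] {Y : Scheme.{u}} (q : Y ⟶ Spec (CommRingCat.of R)) {G F : Y.Modules}
  [Coh.IsQCoh G] [Coh.IsQCoh F] (σ : G ⟶ F) {ι : Type u} [Fintype ι] [DecidableEq ι] (V : ι → Y.Opens)

/-- The images of the sections over the charts. -/
def secSet : Set (∀ i, Γ(F, V i)) := Set.range fun s : Σ i, Γ(G, V i) => Pi.single s.1 (σ.app (V s.1) s.2)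

theorem van_secSet_iff (C : Type u) [CommRing C] [Algebra R C] :
    letI := fun i => modV q F (V i)
    Van R (secSet σ V) C ↔ ∀ (i : ι) (s : Γ(G, V i)), (1 : C) ⊗ₜ[R] σ.app (V i) s = 0 := by
  letI := fun i => modV q F (V i)
  exact ⟨fun h i s => (tmul_single_eq_zero i _).1 (h _ ⟨⟨i, s⟩, rfl⟩),
    fun h t => by rintro ⟨⟨i, s⟩, rfl⟩; exact (tmul_single_eq_zero i _).2 (h i s)⟩

/-- Vanishing of the base change is vanishing on the charts. -/
theorem van_secSet_iff_map (hV : ∀ i, IsAffineOpen (V i)) (hcov : ∀ y, ∃ i, y ∈ V i) (C : Type u) [CommRing C]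
    [Algebra R C] :
    letI := fun i => modV q F (V i)
    (Scheme.Modules.pullback (pullback.fst q (Spec.map (CommRingCat.ofHom (algebraMap R C))))).map σ = 0 ↔
      Van R (secSet σ V) C := by
  letI := fun i => modV q F (V i)
  rw [van_secSet_iff q σ V C]
  refine ⟨fun h i s => (chart_map_eq_zero_iff q (hV i) C σ).1 (by rw [h, Functor.map_zero]) s, fun h => ?_⟩
  haveI : ∀ i, IsOpenImmersion (chart q (hV i) C) := fun i => isOpenImmersion_chart q (hV i) C
  refine hom_eq_zero_of_cover _ _ (fun i => chart q (hV i) C) (fun x => ?_)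
    fun i => (chart_map_eq_zero_iff q (hV i) C σ).2 (h i)
  obtain ⟨i, hi⟩ := hcov (pullback.fst q (Spec.map (CommRingCat.ofHom (algebraMap R C))) x)
  exact ⟨i, by rw [range_chart]; exact hi⟩

variable [IsNoetherianRing R] [IsProper q]

set_option maxHeartbeats 1000000 in
/-- Properness makes vanishing to every order along the closed fibre vanishing. -/
theorem sep_secSet (hFft : CohB1.IsFT F) (hV : ∀ i, IsAffineOpen (V i)) (hcov : ∀ y, ∃ i, y ∈ V i) :
    letI := fun i => modV q F (V i)
    Sep R (secSet σ V) := by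
  letI := fun i => modV q F (V i)
  letI := fun i => algV q (V i)
  haveI : ∀ i, IsScalarTower R Γ(Y, V i) Γ(F, V i) := fun i => IsScalarTower.of_algebraMap_smul fun _ _ => rfl
  classical
  intro C _ _ _ _ hk
  haveI : ∀ i, Module.Finite Γ(Y, V i) Γ(F, V i) := fun i => M1.finite_sections ‹_› hFft (hV i)
  haveI : ∀ i, Algebra.FiniteType R Γ(Y, V i) := fun i => by
    have h : RingHom.FiniteType ((q.appLE ⊤ (V i) le_top).hom.comp (Scheme.ΓSpecIso (CommRingCat.of R)).inv.hom) :=
      (q.finiteType_appLE (isAffineOpen_top _) (hV i) le_top).comp (RingHom.FiniteType.of_surjective _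
        (Scheme.ΓSpecIso (CommRingCat.of R)).symm.commRingCatIsoToRingEquiv.surjective)
    exact h
  let p := pullback.fst q (Spec.map (CommRingCat.ofHom (algebraMap R C)))
  let π := pullback.snd q (Spec.map (CommRingCat.ofHom (algebraMap R C)))
  have hi : ∀ i, ∃ f : Γ(Y, V i) ⊗[R] C,
      (∀ P : PrimeSpectrum (Γ(Y, V i) ⊗[R] C),
        (IsLocalRing.maximalIdeal C).map (Algebra.TensorProduct.includeRight (R := R) (A := Γ(Y, V i)) (B := C)).toRingHom ≤
          P.asIdeal → f ∉ P.asIdeal) ∧
      ∀ s : Γ(G, V i), f • ((1 : Γ(Y, V i) ⊗[R] C) ⊗ₜ[Γ(Y, V i)] σ.app (V i) s) = 0 := by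
    intro i
    let B := Γ(Y, V i)
    let D := B ⊗[R] C
    let inr := (Algebra.TensorProduct.includeRight (R := R) (A := B) (B := C)).toRingHom
    let I := (IsLocalRing.maximalIdeal C).map inr
    haveI : IsNoetherianRing D := by
      haveI : IsNoetherianRing (C ⊗[R] B) := Algebra.FiniteType.isNoetherianRing C _
      exact isNoetherianRing_of_ringEquiv _ (Algebra.TensorProduct.comm R C B).toRingEquiv
    haveI : IsNoetherianRing B := Algebra.FiniteType.isNoetherianRing R _
    let σs : Γ(G, V i) →ₗ[B] Γ(F, V i) :=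
      { toFun := σ.app (V i), map_add' := map_add _, map_smul' := fun r s => σ.app_smul r s }
    obtain ⟨S, hS⟩ := IsNoetherian.noetherian (LinearMap.range σs)
    have hkill : ∀ t ∈ S, ∃ r ∈ I, (1 - r) • ((1 : D) ⊗ₜ[B] t) = 0 := by
      intro t ht
      obtain ⟨s, rfl⟩ : t ∈ LinearMap.range σs := hS ▸ Submodule.subset_span ht
      have hmem : (1 : D) ⊗ₜ[B] σs s ∈ ⨅ k : ℕ, I ^ k • (⊤ : Submodule D (D ⊗[B] Γ(F, V i))) := by
        refine (Submodule.mem_iInf _).2 fun k => ?_
        have h1 := Submodule.mem_map_of_mem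
          (f := (LinearMap.proj i : (∀ j, Γ(F, V j)) →ₗ[R] Γ(F, V i)).baseChange C)
          (hk k _ ⟨⟨i, s⟩, rfl⟩)
        rw [Submodule.map_smul''] at h1
        have h2 := mem_smul_chart (B := B) _ _ (Submodule.smul_mono le_rfl le_top (by simpa using h1))
        rw [Ideal.map_pow] at h2
        exact h2
      obtain ⟨⟨r, hr⟩, hr'⟩ := (Ideal.mem_iInf_smul_pow_eq_bot_iff I _).1 hmem
      refine ⟨r, hr, ?_⟩
      have h3 : (1 - r) • ((1 : D) ⊗ₜ[B] σs s) + r • ((1 : D) ⊗ₜ[B] σs s) = (1 : D) ⊗ₜ[B] σs s := by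
        rw [← add_smul, sub_add_cancel, one_smul]
      rw [show r • ((1 : D) ⊗ₜ[B] σs s) = (1 : D) ⊗ₜ[B] σs s from hr'] at h3
      exact add_eq_right.1 h3
    choose! r hr hr' using hkill
    refine ⟨∏ t ∈ S, (1 - r t), fun P hP hf => ?_, fun s => ?_⟩
    · obtain ⟨t, ht, h⟩ := Ideal.IsPrime.prod_mem_iff.1 hf
      exact (Ideal.ne_top_iff_one _).1 P.isPrime.ne_top (by
        rw [show (1 : D) = (1 - r t) + r t by ring]
        exact P.asIdeal.add_mem h (hP (hr t ht)))
    · let W : Submodule B Γ(F, V i) := LinearMap.ker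
        ((((∏ t ∈ S, (1 - r t)) • LinearMap.id : D ⊗[B] Γ(F, V i) →ₗ[D] _).restrictScalars B) ∘ₗ
          TensorProduct.mk B D Γ(F, V i) 1)
      have hW : LinearMap.range σs ≤ W := by
        rw [← hS]
        refine Submodule.span_le.2 fun t ht => ?_
        show (∏ t ∈ S, (1 - r t)) • ((1 : D) ⊗ₜ[B] t) = 0
        rw [← Finset.prod_erase_mul _ _ ht, mul_smul, hr' t ht, smul_zero]
      exact hW ⟨s, rfl⟩
  choose f hf hfs using hi
  haveI : ∀ i, IsOpenImmersion (chart q (hV i) C) := fun i => isOpenImmersion_chart q (hV i) C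
  let w : ∀ i, Spec (CommRingCat.of (Localization.Away (f i))) ⟶ pullback q (Spec.map (CommRingCat.ofHom (algebraMap R C))) :=
    fun i => Spec.map (CommRingCat.ofHom (algebraMap (Γ(Y, V i) ⊗[R] C) (Localization.Away (f i)))) ≫ chart q (hV i) C
  haveI : ∀ i, IsOpenImmersion (Spec.map (CommRingCat.ofHom
      (algebraMap (Γ(Y, V i) ⊗[R] C) (Localization.Away (f i))))) := fun i => IsOpenImmersion.of_isLocalization (f i)
  rw [← van_secSet_iff_map q σ V hV hcov C]
  refine hom_eq_zero_of_cover _ _ w (fun y => ?_) fun i => ?_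
  · -- every point specialises to the closed fibre
    have hcl : IsClosed (π '' closure {y}) := π.isClosedMap _ isClosed_closure
    obtain ⟨y', hy', hπy⟩ : IsLocalRing.closedPoint C ∈ π '' closure {y} :=
      (IsLocalRing.specializes_closedPoint (π y)).mem_closed hcl ⟨y, subset_closure rfl, rfl⟩
    obtain ⟨i, hi⟩ := hcov (p y')
    have hi' : y' ∈ Set.range (chart q (hV i) C) := by rw [range_chart]; exact hi
    obtain ⟨P, rfl⟩ := hi'
    have hP : f i ∉ P.asIdeal := by
      refine hf i P (Ideal.map_le_iff_le_comap.2 ?_)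
      have h1 := congr($(chart_snd q (hV i) C) P)
      rw [Scheme.Hom.comp_apply] at h1
      rw [hπy] at h1
      exact (congrArg PrimeSpectrum.asIdeal h1).le
    refine ⟨i, ?_⟩
    refine Specializes.mem_open (specializes_iff_mem_closure.2 hy') (w i).isOpenEmbedding.isOpen_range ?_
    obtain ⟨P', hP'⟩ : P ∈ Set.range (PrimeSpectrum.comap (algebraMap _ (Localization.Away (f i)))) := by
      rw [PrimeSpectrum.localization_away_comap_range _ (f i)]; exact hP
    exact ⟨P', by rw [Scheme.Hom.comp_apply]; exact congrArg _ hP'⟩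
  · let Df := Localization.Away (f i)
    have hw : w i ≫ pullback.fst q (Spec.map (CommRingCat.ofHom (algebraMap R C))) = toY (hV i) Df := by
      rw [Category.assoc, chart_fst, toY, toY, ← Category.assoc, ← Spec.map_comp, ← CommRingCat.ofHom_comp,
        ← IsScalarTower.algebraMap_eq]
    rw [← map_eq_zero_cmp_iff (w i) _ hw, pullback_map_eq_zero_iff]
    intro s
    have h0 := congrArg ((IsScalarTower.toAlgHom Γ(Y, V i) (Γ(Y, V i) ⊗[R] C) Df).toLinearMap.rTensor Γ(F, V i))
      (hfs i s)
    rw [TensorProduct.smul_tmul', smul_eq_mul, mul_one, LinearMap.rTensor_tmul, map_zero] at h0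
    have hu : IsUnit (algebraMap (Γ(Y, V i) ⊗[R] C) Df (f i)) := IsLocalization.Away.algebraMap_isUnit (f i)
    refine hu.smul_eq_zero.1 ?_
    rw [TensorProduct.smul_tmul', smul_eq_mul, mul_one]
    exact h0

omit [DecidableEq ι] in
/-- The vanishing ideal over a Noetherian ring. -/
theorem exists_ideal_noeth (hFft : CohB1.IsFT F) (hfl : FlatMod.IsFlatOver q F) :
    ∃ J : Ideal R, ∀ (C : Type u) [CommRing C] [Algebra R C],
      (Scheme.Modules.pullback (pullback.fst q (Spec.map (CommRingCat.ofHom (algebraMap R C))))).map σ = 0 ↔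
        J ≤ RingHom.ker (algebraMap R C) := by
  classical
  haveI : CompactSpace Y := QuasiCompact.compactSpace_of_compactSpace q
  obtain ⟨Vs, -, hVs⟩ := ModLimH13.exists_finset_affine_cover (⊤ : Y.Opens) isCompact_univ
  let W : Vs → Y.Opens := fun i => i.1.1
  have hW : ∀ i, IsAffineOpen (W i) := fun i => i.1.2
  have hcov : ∀ y, ∃ i, y ∈ W i := fun y => by
    obtain ⟨U, hU, hy⟩ := hVs y trivial
    exact ⟨⟨U, hU⟩, hy⟩
  letI := fun i => modV q F (W i)
  letI := fun i => algV q (W i)
  haveI : ∀ i, IsScalarTower R Γ(Y, W i) Γ(F, W i) := fun i => IsScalarTower.of_algebraMap_smul fun _ _ => rfl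
  haveI : ∀ i, Module.Finite Γ(Y, W i) Γ(F, W i) := fun i => M1.finite_sections ‹_› hFft (hW i)
  haveI : ∀ i, Algebra.FiniteType R Γ(Y, W i) := fun i => by
    have h : RingHom.FiniteType ((q.appLE ⊤ (W i) le_top).hom.comp (Scheme.ΓSpecIso (CommRingCat.of R)).inv.hom) :=
      (q.finiteType_appLE (isAffineOpen_top _) (hW i) le_top).comp (RingHom.FiniteType.of_surjective _
        (Scheme.ΓSpecIso (CommRingCat.of R)).symm.commRingCatIsoToRingEquiv.surjective)
    exact h
  haveI : ∀ i, Module.Flat R Γ(F, W i) := fun i => by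
    letI := FlatH4.secModuleOver q F ⊤ (W i) le_top
    haveI := FibDepth5.flat_sections q F hfl (isAffineOpen_top _) (hW i) le_top
    let e := (Scheme.ΓSpecIso (CommRingCat.of R)).symm.commRingCatIsoToRingEquiv
    letI : Algebra R Γ(Spec (CommRingCat.of R), ⊤) := e.toRingHom.toAlgebra
    haveI : Module.Flat R Γ(Spec (CommRingCat.of R), ⊤) :=
      Module.Flat.of_linearEquiv (LinearEquiv.ofBijective (Algebra.linearMap R _) e.bijective).symm
    haveI : IsScalarTower R Γ(Spec (CommRingCat.of R), ⊤) Γ(F, W i) :=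
      IsScalarTower.of_algebraMap_smul fun _ _ => rfl
    exact Module.Flat.trans R Γ(Spec (CommRingCat.of R), ⊤) Γ(F, W i)
  haveI : Module.Flat R (∀ i, Γ(F, W i)) :=
    Module.Flat.of_linearEquiv (DirectSum.linearEquivFunOnFintype R Vs fun i => Γ(F, W i)).symm
  let σs : ∀ i, Γ(G, W i) →ₗ[Γ(Y, W i)] Γ(F, W i) := fun i =>
    { toFun := σ.app (W i), map_add' := map_add _, map_smul' := fun r s => σ.app_smul r s }
  haveI : ∀ i, IsNoetherianRing Γ(Y, W i) := fun i => Algebra.FiniteType.isNoetherianRing R _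
  choose S hS using fun i => IsNoetherian.noetherian (LinearMap.range (σs i))
  let T : Finset (∀ i, Γ(F, W i)) := (Finset.univ.sigma S).image fun x => Pi.single x.1 x.2
  have hT : ∀ (C : Type u) [CommRing C] [Algebra R C], Van R (↑T : Set (∀ i, Γ(F, W i))) C ↔ Van R (secSet σ W) C := by
    intro C _ _
    rw [van_secSet_iff q σ W C]
    constructor
    · intro h i s
      let K : Submodule Γ(Y, W i) Γ(F, W i) :=
        { carrier := {m | (1 : C) ⊗ₜ[R] m = 0}
          zero_mem' := TensorProduct.tmul_zero _ _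
          add_mem' := fun {a b} ha hb => by
            show (1 : C) ⊗ₜ[R] (a + b) = 0
            rw [TensorProduct.tmul_add, ha, hb, add_zero]
          smul_mem' := fun b m hm => by
            have := congrArg (((LinearMap.lsmul Γ(Y, W i) Γ(F, W i) b).restrictScalars R).lTensor C) hm
            simpa using this }
      have hK : LinearMap.range (σs i) ≤ K := by
        rw [← hS i]
        refine Submodule.span_le.2 fun t ht => ?_
        exact (tmul_single_eq_zero i _).1 (h _ (Finset.mem_coe.2 (Finset.mem_image.2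
          ⟨⟨i, t⟩, Finset.mem_sigma.2 ⟨Finset.mem_univ _, ht⟩, rfl⟩)))
      exact hK ⟨s, rfl⟩
    · intro h t ht
      obtain ⟨⟨i, m⟩, hm, rfl⟩ := Finset.mem_image.1 ht
      obtain ⟨s, hs⟩ : m ∈ LinearMap.range (σs i) := hS i ▸ Submodule.subset_span (Finset.mem_sigma.1 hm).2
      exact (tmul_single_eq_zero (C := C) (M := fun j => Γ(F, W j)) i m).2 (hs ▸ h i s)
  have hSep : Sep R (↑T : Set (∀ i, Γ(F, W i))) := fun C _ _ _ _ hk => (hT C).2 (sep_secSet q σ W hFft hW hcov C fun k t ht => by
      obtain ⟨⟨i, s⟩, rfl⟩ := ht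
      let K : Submodule Γ(Y, W i) Γ(F, W i) :=
        { carrier := {m | (1 : C) ⊗ₜ[R] (Pi.single i m : ∀ j, Γ(F, W j)) ∈
            IsLocalRing.maximalIdeal C ^ k • (⊤ : Submodule C (C ⊗[R] ∀ j, Γ(F, W j)))}
          zero_mem' := by simp
          add_mem' := fun {a b} ha hb => by
            simp only [Set.mem_setOf_eq, Pi.single_add, TensorProduct.tmul_add] at ha hb ⊢
            exact Submodule.add_mem _ ha hb
          smul_mem' := fun b m hm => by
            let L : (∀ j, Γ(F, W j)) →ₗ[R] (∀ j, Γ(F, W j)) := (LinearMap.single R _ i) ∘ₗ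
              (LinearMap.lsmul Γ(Y, W i) Γ(F, W i) b).restrictScalars R ∘ₗ LinearMap.proj i
            have h1 := Submodule.mem_map_of_mem (f := L.baseChange C) (show (1 : C) ⊗ₜ[R] (Pi.single i m : ∀ j, Γ(F, W j)) ∈
              IsLocalRing.maximalIdeal C ^ k • (⊤ : Submodule C (C ⊗[R] ∀ j, Γ(F, W j))) from hm)
            rw [Submodule.map_smul''] at h1
            rw [LinearMap.baseChange_tmul] at h1
            have h2 := Submodule.smul_mono le_rfl le_top h1
            have hL : L (Pi.single i m) = Pi.single i (b • m) := by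
              simp [L]
            rw [hL] at h2
            exact h2 }
      have hK : LinearMap.range (σs i) ≤ K := by
        rw [← hS i]
        refine Submodule.span_le.2 fun t ht => ?_
        exact hk k _ (Finset.mem_coe.2 (Finset.mem_image.2
          ⟨⟨i, t⟩, Finset.mem_sigma.2 ⟨Finset.mem_univ _, ht⟩, rfl⟩))
      exact hK ⟨s, rfl⟩)
  obtain ⟨J, hJ⟩ := exists_rep T hSep
    (genFree_pi fun i => genFree_of_finite (B := Γ(Y, W i)))
  exact ⟨J, fun C _ _ => (van_secSet_iff_map q σ W hW hcov C).trans ((hT C).symm.trans (hJ C))⟩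

end Groth.Agent.VanRep13
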