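import Groth.Agent.Lib.VanRep13.Local

/-!
# Spreading the vanishing ideal of a point
-/

set_option autoImplicit false
set_option linter.style.haveILetI false
universe u

open scoped TensorProduct
open IsLocalRing

namespace Groth.Agent.VanRep13

variable {A : Type u} [CommRing A] {M : Type u} [AddCommGroup M] [Module A M]

/-- The ideal of the images of `a`. -/
abbrev gens {r : ℕ} (a : Fin r → A) (C : Type u) [CommRing C] [Algebra A C] : Ideal C :=
  Ideal.span (Set.range fun l => algebraMap A C (a l))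

theorem exists_smul_eq (p : Ideal A) [p.IsPrime] {r : ℕ} (a : Fin r → A) (x : Localization.AtPrime p ⊗[A] M)
    (hx : x ∈ gens a (Localization.AtPrime p) • (⊤ : Submodule (Localization.AtPrime p) _)) :
    ∃ s : A, s ∉ p ∧ ∃ m : Fin r → M, s • x = (1 : Localization.AtPrime p) ⊗ₜ[A] ∑ l, a l • m l := by
  classical
  haveI : IsLocalizedModule p.primeCompl (TensorProduct.mk A (Localization.AtPrime p) M 1) :=
    (isLocalizedModule_iff_isBaseChange p.primeCompl (Localization.AtPrime p) _).2 (TensorProduct.isBaseChange A M _)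
  refine Submodule.smul_induction_on hx (fun c hc n _ => ?_) (fun u v hu hv => ?_)
  · obtain ⟨coef, rfl⟩ := Submodule.mem_span_range_iff_exists_fun _ |>.1 hc
    choose ml hml using fun l => IsLocalizedModule.surj p.primeCompl (TensorProduct.mk A (Localization.AtPrime p) M 1) (coef l • n)
    let s : p.primeCompl := ∏ l, (ml l).2
    refine ⟨s, s.2, fun l => ((∏ j ∈ Finset.univ.erase l, (ml j).2 : p.primeCompl) : A) • (ml l).1, ?_⟩
    rw [TensorProduct.tmul_sum, Finset.sum_smul, Finset.smul_sum]
    refine Finset.sum_congr rfl fun l _ => ?_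
    rw [show s = (∏ j ∈ Finset.univ.erase l, (ml j).2) * (ml l).2 from
      (Finset.prod_erase_mul _ _ (Finset.mem_univ l)).symm, Submonoid.coe_mul]
    have h := hml l
    rw [TensorProduct.mk_apply, Submonoid.smul_def] at h
    rw [TensorProduct.tmul_smul, TensorProduct.tmul_smul, ← h, smul_eq_mul, mul_comm (coef l), ← Algebra.smul_def,
      smul_assoc, mul_smul, smul_comm _ (a l), smul_comm _ (a l)]
  · obtain ⟨su, hsu, mu, hu⟩ := hu
    obtain ⟨sv, hsv, mv, hv⟩ := hv
    refine ⟨su * sv, fun h => ((Ideal.IsPrime.mem_or_mem inferInstance h).elim hsu hsv),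
      fun l => sv • mu l + su • mv l, ?_⟩
    rw [smul_add, mul_smul, mul_smul, smul_comm su sv u, hu, hv, ← TensorProduct.tmul_smul, ← TensorProduct.tmul_smul,
      ← TensorProduct.tmul_add]
    simp only [Finset.smul_sum, ← Finset.sum_add_distrib, smul_add, smul_comm (a _)]

theorem exists_relations (p : Ideal A) [p.IsPrime] (T : Finset M) {r : ℕ} (a : Fin r → A)
    (h : Van A (↑T : Set M) (Localization.AtPrime p ⧸ gens a (Localization.AtPrime p))) :
    ∃ g : A, g ∉ p ∧ ∃ m : M → Fin r → M, ∀ t ∈ T, g • t = ∑ l, a l • m t l := by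
  classical
  haveI : IsLocalizedModule p.primeCompl (TensorProduct.mk A (Localization.AtPrime p) M 1) :=
    (isLocalizedModule_iff_isBaseChange p.primeCompl (Localization.AtPrime p) _).2 (TensorProduct.isBaseChange A M _)
  have h1 := (van_quot_iff (A := Localization.AtPrime p) _).1
    ((van_img (Localization.AtPrime p) (Localization.AtPrime p ⧸ gens a (Localization.AtPrime p))).2 h)
  have h2 : ∀ t ∈ T, ∃ g : A, g ∉ p ∧ ∃ m : Fin r → M, g • t = ∑ l, a l • m l := by
    intro t ht
    obtain ⟨s, hs, m, hm⟩ := exists_smul_eq p a _ (h1 _ ⟨t, ht, rfl⟩)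
    rw [← TensorProduct.tmul_smul] at hm
    obtain ⟨c, hc⟩ := IsLocalizedModule.exists_of_eq (S := p.primeCompl)
      (f := TensorProduct.mk A (Localization.AtPrime p) M 1) hm
    rw [Submonoid.smul_def, Submonoid.smul_def, smul_smul, Finset.smul_sum] at hc
    refine ⟨(c : A) * s, fun h => ((Ideal.IsPrime.mem_or_mem inferInstance h).elim c.2 hs),
      fun l => (c : A) • m l, hc.trans (Finset.sum_congr rfl fun l _ => smul_comm _ _ _)⟩
  choose! g hg m hm using h2
  refine ⟨∏ t ∈ T, g t, fun h => ?_, fun t l => (∏ j ∈ T.erase t, g j) • m t l, fun t ht => ?_⟩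
  · obtain ⟨t, ht, h'⟩ := Ideal.IsPrime.prod_mem_iff.1 h
    exact hg t ht h'
  · rw [← Finset.prod_erase_mul _ _ ht, mul_smul, hm t ht, Finset.smul_sum]
    exact Finset.sum_congr rfl fun l _ => smul_comm _ _ _

/-- The relations at a point are independent in the fibre when the generators are as few as possible. -/
theorem linearIndependent_relations [IsNoetherianRing A] (p : Ideal A) [p.IsPrime] (T : Finset M) {r : ℕ} (a : Fin r → A)
    (J : Ideal (Localization.AtPrime p)) (hJ : gens a (Localization.AtPrime p) = J) (hr : r = J.spanFinrank)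
    (hmin : ∀ J' : Ideal (Localization.AtPrime p), Van A (↑T : Set M) (Localization.AtPrime p ⧸ J') → J ≤ J')
    {g : A} (hg : g ∉ p) {m : M → Fin r → M} (hm : ∀ t ∈ T, g • t = ∑ l, a l • m t l) :
    LinearIndependent p.ResidueField fun l => fun t : T => (1 : p.ResidueField) ⊗ₜ[A] m t l := by
  classical
  let P := Localization.AtPrime p
  rw [Fintype.linearIndependent_iff]
  intro c hc
  by_contra hne
  push Not at hne
  obtain ⟨l₀, hl₀⟩ := hne
  choose c' hc' using fun l => IsLocalRing.residue_surjective (c l)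
  have hu : IsUnit (c' l₀) := by
    by_contra hn
    exact hl₀ (hc' l₀ ▸ (IsLocalRing.residue_eq_zero_iff _).2 hn)
  let x : Fin r → P := fun l => algebraMap A P (a l)
  let v : Fin r → P := fun j => c' l₀ * x j - c' j * x l₀
  let V : Ideal P := Ideal.span (↑((Finset.univ.erase l₀).image v) : Set P)
  have hxJ : ∀ l, x l ∈ J := fun l => hJ ▸ Ideal.subset_span ⟨l, rfl⟩
  have hvV : ∀ l, v l ∈ V := by
    intro l
    rcases eq_or_ne l l₀ with rfl | h
    · simp [v]
    · exact Ideal.subset_span (Finset.mem_coe.2 (Finset.mem_image_of_mem _ (Finset.mem_erase.2 ⟨h, Finset.mem_univ _⟩)))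
  have hvan : Van A (↑T : Set M) (P ⧸ (V ⊔ maximalIdeal P • J)) := by
    rw [← van_img P, van_quot_iff]
    rintro _ ⟨t, ht, rfl⟩
    have hc2 : ∑ l, c l • ((1 : p.ResidueField) ⊗ₜ[A] m t l) = 0 := by
      simpa using congrFun hc ⟨t, ht⟩
    have hsum : ∑ l, c' l • ((1 : P) ⊗ₜ[A] m t l) ∈ maximalIdeal P • (⊤ : Submodule P (P ⊗[A] M)) := by
      have h0 : (1 : P ⧸ maximalIdeal P) ⊗ₜ[P] (∑ l, c' l • ((1 : P) ⊗ₜ[A] m t l)) = 0 := by
        refine (TensorProduct.AlgebraTensorModule.cancelBaseChange A P P (P ⧸ maximalIdeal P) M).injective ?_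
        rw [map_zero, TensorProduct.tmul_sum, map_sum]
        refine Eq.trans (Finset.sum_congr rfl fun l _ => ?_) hc2
        rw [← hc' l]
        simp only [TensorProduct.tmul_smul, map_smul, TensorProduct.AlgebraTensorModule.cancelBaseChange_tmul, one_smul]
        rfl
      have h4 := congrArg (TensorProduct.quotTensorEquivQuotSMul (P ⊗[A] M) (maximalIdeal P)) h0
      have h := TensorProduct.quotTensorEquivQuotSMul_mk_tmul (maximalIdeal P) (1 : P)
        (∑ l, c' l • ((1 : P) ⊗ₜ[A] m t l))
      rw [one_smul] at h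
      rw [show (1 : P ⧸ maximalIdeal P) = Ideal.Quotient.mk _ 1 from rfl, h, map_zero,
        Submodule.Quotient.mk_eq_zero] at h4
      exact h4
    have hgt : algebraMap A P g • ((1 : P) ⊗ₜ[A] t) = ∑ l, x l • ((1 : P) ⊗ₜ[A] m t l) := by
      simp only [x, algebraMap_smul, ← TensorProduct.tmul_smul, hm t ht, TensorProduct.tmul_sum]
    have key : (c' l₀ * algebraMap A P g) • ((1 : P) ⊗ₜ[A] t) =
        (∑ l, v l • ((1 : P) ⊗ₜ[A] m t l)) + x l₀ • ∑ l, c' l • ((1 : P) ⊗ₜ[A] m t l) := by
      rw [mul_smul, hgt, Finset.smul_sum, Finset.smul_sum, ← Finset.sum_add_distrib]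
      refine Finset.sum_congr rfl fun l _ => ?_
      rw [smul_smul, smul_smul, ← add_smul]
      congr 1
      simp only [v]
      ring
    obtain ⟨w, hw⟩ := hu.mul (IsLocalization.map_units P (⟨g, hg⟩ : p.primeCompl))
    show (1 : P) ⊗ₜ[A] t ∈ _
    have hback : (1 : P) ⊗ₜ[A] t = (↑w⁻¹ : P) • ((c' l₀ * algebraMap A P g) • ((1 : P) ⊗ₜ[A] t)) := by
      rw [smul_smul, show (c' l₀ * algebraMap A P g) = (w : P) from hw.symm, w.inv_mul, one_smul]
    rw [hback, key]
    refine Submodule.smul_mem _ _ (Submodule.add_mem _ (Submodule.sum_mem _ fun l _ =>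
      Submodule.smul_mem_smul (Submodule.mem_sup_left (hvV l)) Submodule.mem_top) ?_)
    refine Submodule.smul_induction_on hsum (fun q hq y _ => ?_) fun y z hy hz => by
      rw [smul_add]; exact Submodule.add_mem _ hy hz
    rw [smul_smul, mul_comm]
    exact Submodule.smul_mem_smul (Submodule.mem_sup_right (Submodule.smul_mem_smul hq (hxJ l₀))) Submodule.mem_top
  have hle := hmin _ hvan
  have hJle : J ≤ V := Submodule.le_of_le_smul_of_le_jacobson_bot (IsNoetherian.noetherian J)
    (IsLocalRing.maximalIdeal_le_jacobson ⊥) hle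
  have hVJ : V ≤ J := by
    refine Ideal.span_le.2 fun y hy => ?_
    obtain ⟨j, -, rfl⟩ := Finset.mem_image.1 (Finset.mem_coe.1 hy)
    exact J.sub_mem (J.mul_mem_left _ (hxJ j)) (J.mul_mem_left _ (hxJ l₀))
  have heq : J = V := le_antisymm hJle hVJ
  have h1 : J.spanFinrank ≤ (Finset.univ.erase l₀).card := by
    rw [heq]
    refine (Submodule.spanFinrank_span_le_ncard_of_finite (Finset.finite_toSet _)).trans ?_
    rw [Set.ncard_coe_finset]
    exact Finset.card_image_le
  rw [Finset.card_erase_of_mem (Finset.mem_univ l₀), Finset.card_univ, Fintype.card_fin, ← hr] at h1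
  have := l₀.2
  omega

end Groth.Agent.VanRep13
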